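import Cfsg.Agent.Lib.Perm.Product.Prim

/-!
The conjugates of a coordinate cycle that lie in the wreath product are coordinate cycles, and they are conjugate
there; a group whose centraliser of a coordinate cycle lies in the wreath product preserves adjacency.
-/

set_option autoImplicit false
set_option linter.unusedSectionVars false

namespace CfsgLib.Perm.Product

open Equiv Equiv.Perm Function

variable {k m : ℕ}

theorem card_fix_base (τ : Fin k → Perm (Fin m)) :
    Fintype.card {f : Fin k → Fin m // base τ f = f} = ∏ j, Fintype.card {v : Fin m // τ j v = v} := by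
  classical
  rw [← Fintype.card_pi]
  refine Fintype.card_congr
    { toFun := fun f j => ⟨f.1 j, congrFun f.2 j⟩
      invFun := fun p => ⟨fun j => (p j).1, funext fun j => (p j).2⟩
      left_inv := fun f => Subtype.ext rfl
      right_inv := fun p => funext fun j => Subtype.ext rfl }

/-- an element moving the coordinates has few fixed points -/
theorem card_fix_le {σ : Perm (Fin (k + 1) → Fin m)} {π : Perm (Fin (k + 1))} {τ : Fin (k + 1) → Perm (Fin m)}
    (e : ∀ f j, σ f j = τ j (f (π.symm j))) {j0 : Fin (k + 1)} (hj : π j0 ≠ j0) :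
    Fintype.card {f : Fin (k + 1) → Fin m // σ f = f} ≤ m ^ k := by
  classical
  have hinj : Function.Injective fun f : {f : Fin (k + 1) → Fin m // σ f = f} =>
      fun l : Fin k => f.1 ((π j0).succAbove l) := by
    intro f f' h
    refine Subtype.ext (funext fun j => ?_)
    have hrest : ∀ j, j ≠ π j0 → f.1 j = f'.1 j := fun j hne => by
      obtain ⟨l, rfl⟩ := Fin.exists_succAbove_eq hne
      exact congrFun h l
    rcases eq_or_ne j (π j0) with rfl | hne
    · rw [← congrFun f.2 (π j0), ← congrFun f'.2 (π j0), e, e, Equiv.symm_apply_apply, hrest j0 (Ne.symm hj)]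
    · exact hrest j hne
  refine (Fintype.card_le_of_injective _ hinj).trans ?_
  rw [Fintype.card_fun, Fintype.card_fin, Fintype.card_fin]

theorem support_card_add_fix (d : Perm (Fin m)) :
    d.support.card + Fintype.card {v : Fin m // d v = v} = m := by
  classical
  rw [Fintype.card_subtype, show (Finset.univ.filter fun v => d v = v) = d.supportᶜ from Finset.ext fun v => by simp,
    Finset.card_add_card_compl, Fintype.card_fin]

theorem card_fix_of_cycle {c : Perm (Fin m)} {L : ℕ} (hcard : c.support.card = L) :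
    Fintype.card {v : Fin m // c v = v} = m - L := by
  have := support_card_add_fix c
  omega

theorem pow_cycle {c : Perm (Fin m)} (hc : c.IsCycle) {L : ℕ} (hcard : c.support.card = L) : c ^ L = 1 := by
  rw [← hcard, ← hc.orderOf, pow_orderOf_eq_one]

theorem coord_pow (i : Fin k) (c : Perm (Fin m)) : ∀ r : ℕ, coord i c ^ r = coord i (c ^ r)
  | 0 => by rw [pow_zero, pow_zero, coord_one]
  | r + 1 => by rw [pow_succ, pow_succ, coord_mul, coord_pow i c r]

theorem coord_injective (i : Fin k) (hm : 0 < m) : Function.Injective (coord (m := m) i) := fun c d e =>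
  Equiv.ext fun v => by
    have := congrArg (fun g : Perm (Fin k → Fin m) => g (fun _ => v) i) e
    simpa only [coord_self] using this

theorem card_fix_coord (i : Fin (k + 1)) (c : Perm (Fin m)) :
    Fintype.card {f : Fin (k + 1) → Fin m // coord i c f = f} = Fintype.card {v : Fin m // c v = v} * m ^ k := by
  classical
  rw [coord, card_fix_base, Fin.prod_univ_succAbove _ i]
  congr 1
  · exact Fintype.card_congr (Equiv.subtypeEquivRight fun v => by rw [Pi.mulSingle_eq_same])
  · rw [Finset.prod_congr rfl fun l _ => show Fintype.card {v : Fin m // Pi.mulSingle (M := fun _ => Perm (Fin m)) i c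
      (i.succAbove l) v = v} = m from by
      rw [Fintype.card_congr (Equiv.subtypeUnivEquiv fun v => by
        rw [Pi.mulSingle_eq_of_ne (Fin.succAbove_ne i l)]; rfl), Fintype.card_fin],
      Finset.prod_const, Finset.card_univ, Fintype.card_fin]

/-- a conjugate of a coordinate cycle in the wreath product is a coordinate cycle -/
theorem exists_coord_of_conj {q e : ℕ} (hq : q.Prime) (he : 1 ≤ e) (hL : m < 2 * q ^ e) (hL2 : q ^ e + 2 ≤ m)
    {i : Fin (k + 1)} {c : Perm (Fin m)} (hc : c.IsCycle) (hcard : c.support.card = q ^ e)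
    {g : Perm (Fin (k + 1) → Fin m)} (hy : InW (g * coord i c * g⁻¹)) :
    ∃ (j : Fin (k + 1)) (d : Perm (Fin m)), d.IsCycle ∧ d.support.card = q ^ e ∧ g * coord i c * g⁻¹ = coord j d := by
  classical
  obtain ⟨y, hydef⟩ : ∃ y, y = g * coord i c * g⁻¹ := ⟨_, rfl⟩
  rw [← hydef] at hy ⊢
  have hfix : Fintype.card {f : Fin (k + 1) → Fin m // y f = f} = (m - q ^ e) * m ^ k := by
    rw [← card_fix_of_cycle hcard, ← card_fix_coord i c, hydef]
    refine Fintype.card_congr (Equiv.subtypeEquiv g⁻¹ fun f => ?_)
    show g (coord i c (g⁻¹ f)) = f ↔ _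
    constructor
    · intro h
      conv_rhs => rw [← h]
      rw [← Perm.mul_apply g⁻¹ g, inv_mul_cancel, Perm.one_apply]
    · intro h
      rw [h, ← Perm.mul_apply, mul_inv_cancel, Perm.one_apply]
  obtain ⟨π, τ, hτ⟩ := hy
  have hmk : 0 < m ^ k := pow_pos (by omega) k
  have hπ : π = 1 := by
    by_contra hne
    obtain ⟨j0, hj0⟩ : ∃ j, π j ≠ j := by
      by_contra h; push Not at h; exact hne (Equiv.ext h)
    have h1 := card_fix_le hτ hj0
    have h2 : 2 * m ^ k ≤ (m - q ^ e) * m ^ k := Nat.mul_le_mul_right _ (by omega)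
    omega
  subst hπ
  have hyb : y = base τ := Equiv.ext fun f => funext fun j => by rw [hτ]; rfl
  -- some coordinate has the full order
  obtain ⟨r, hr⟩ : ∃ r, r = q ^ (e - 1) := ⟨_, rfl⟩
  have hrL : r * q = q ^ e := by rw [hr, ← pow_succ, Nat.sub_add_cancel he]
  have hbpow : ∀ (n : ℕ), base τ ^ n = base (τ ^ n) := fun n => by
    induction n with
    | zero => rw [pow_zero, pow_zero, base_one]
    | succ n ih => rw [pow_succ, pow_succ, base_mul, ih]
  obtain ⟨j, hj⟩ : ∃ j, (τ j) ^ r ≠ 1 := by
    by_contra h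
    push Not at h
    have h1 : y ^ r = 1 := by rw [hyb, hbpow, show τ ^ r = 1 from funext h, base_one]
    rw [hydef, conj_pow, conj_eq_one_iff, coord_pow] at h1
    have h2 : c ^ r = 1 := coord_injective i (by omega) (h1.trans (coord_one i).symm)
    have h3 := orderOf_dvd_of_pow_eq_one h2
    rw [hc.orderOf, hcard] at h3
    have := Nat.le_of_dvd (by rw [hr]; exact pow_pos hq.pos _) h3
    have : r * 2 ≤ r * q := Nat.mul_le_mul_left r hq.two_le
    have : 0 < r := by rw [hr]; exact pow_pos hq.pos _
    omega
  have hLj : τ j ^ (q ^ e) = 1 := by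
    have h1 : y ^ (q ^ e) = 1 := by
      rw [hydef, conj_pow, coord_pow, pow_cycle hc hcard, coord_one, mul_one, mul_inv_cancel]
    rw [hyb, hbpow] at h1
    refine Equiv.ext fun v => ?_
    have := congrArg (fun g : Perm (Fin (k + 1) → Fin m) => g (fun _ => v) j) h1
    simpa using this
  -- that coordinate is a cycle of full length
  obtain ⟨d, hd⟩ : ∃ d, d = τ j := ⟨_, rfl⟩
  rw [← hd] at hj hLj
  obtain ⟨v, hv⟩ : ∃ v, (d ^ r) v ≠ v := by
    by_contra h; push Not at h; exact hj (Equiv.ext h)
  have hdv : d v ≠ v := fun h => hv (pow_apply_eq_self_of_apply_eq_self h r)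
  have hcy := isCycle_cycleOf d hdv
  have hsup : (d.cycleOf v).support.card = q ^ e := by
    rw [← hcy.orderOf]
    haveI := Fact.mk hq
    have hpowL : (d.cycleOf v) ^ (q ^ ((e - 1) + 1)) = 1 := by
      rw [Nat.sub_add_cancel he]
      refine Equiv.ext fun w => ?_
      by_cases hw : d.SameCycle v w
      · have key : ∀ n : ℕ, (d.cycleOf v ^ n) w = (d ^ n) w := fun n => by
          induction n with
          | zero => rfl
          | succ n ih =>
            rw [pow_succ', pow_succ', Perm.mul_apply, Perm.mul_apply, ih,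
              SameCycle.cycleOf_apply (hw.trans ⟨n, by rw [zpow_natCast]⟩)]
        rw [key, hLj]
      · exact pow_apply_eq_self_of_apply_eq_self (cycleOf_apply_of_not_sameCycle hw) _
    have hnot : ¬ (d.cycleOf v) ^ (q ^ (e - 1)) = 1 := fun h => hv (by
      rw [← cycleOf_pow_apply_self, hr, h, Perm.one_apply])
    have := orderOf_eq_prime_pow hnot hpowL
    rwa [Nat.sub_add_cancel he] at this
  have hle : q ^ e ≤ d.support.card :=
    hsup.ge.trans (Finset.card_le_card (Perm.support_cycleOf_le d v))
  -- comparing the fixed points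
  rw [hyb, card_fix_base, Fin.prod_univ_succAbove _ j, ← hd] at hfix
  have hfd := support_card_add_fix d
  have hrest : ∀ l, Fintype.card {v : Fin m // τ (j.succAbove l) v = v} ≤ m := fun l =>
    (Fintype.card_subtype_le _).trans_eq (Fintype.card_fin m)
  have hple : ∏ l, Fintype.card {v : Fin m // τ (j.succAbove l) v = v} ≤ m ^ k :=
    (Finset.prod_le_prod' fun l _ => hrest l).trans_eq (by simp)
  have hdf : Fintype.card {v : Fin m // d v = v} = m - q ^ e := by
    refine le_antisymm (by omega) ?_
    by_contra hlt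
    push Not at hlt
    have := Nat.mul_le_mul hlt hple
    rw [Nat.succ_mul, hfix] at this
    have h0 : 0 < (m - q ^ e) * m ^ k := Nat.mul_pos (by omega) hmk
    have hz : ∏ l, Fintype.card {v : Fin m // τ (j.succAbove l) v = v} = 0 := by omega
    rw [hz, mul_zero] at hfix
    omega
  rw [hdf] at hfix
  have hp : ∏ l, Fintype.card {v : Fin m // τ (j.succAbove l) v = v} = m ^ k :=
    Nat.eq_of_mul_eq_mul_left (by omega) hfix
  have hone : ∀ l, τ (j.succAbove l) = 1 := by
    intro l
    by_contra hne
    obtain ⟨w, hw⟩ : ∃ w, τ (j.succAbove l) w ≠ w := by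
      by_contra h; push Not at h; exact hne (Equiv.ext h)
    have hlt : Fintype.card {v : Fin m // τ (j.succAbove l) v = v} < m :=
      (Fintype.card_subtype_lt (p := fun v => τ (j.succAbove l) v = v) hw).trans_eq (Fintype.card_fin m)
    have hk0 : 0 < m := by omega
    have := Finset.prod_lt_prod (s := (Finset.univ : Finset (Fin k)))
      (f := fun l => Fintype.card {v : Fin m // τ (j.succAbove l) v = v}) (g := fun _ => m) (fun l _ => by
        by_contra h0
        push Not at h0
        have h1 := Finset.prod_eq_zero (f := fun l => Fintype.card {v : Fin m // τ (j.succAbove l) v = v})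
          (Finset.mem_univ l) (Nat.le_zero.1 h0)
        beta_reduce at h1
        omega) (fun l _ => hrest l) ⟨l, Finset.mem_univ _, hlt⟩
    simp at this
    omega
  refine ⟨j, d, ?_, by omega, ?_⟩
  · have hsd : d.support = (d.cycleOf v).support :=
      (Finset.eq_of_subset_of_card_le (Perm.support_cycleOf_le d v) (by omega)).symm
    have heq : d = d.cycleOf v := Equiv.ext fun w => by
      by_cases hw : d.SameCycle v w
      · exact (hw.cycleOf_apply).symm
      · rw [cycleOf_apply_of_not_sameCycle hw]
        by_contra hne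
        have : w ∈ (d.cycleOf v).support := hsd ▸ mem_support.2 hne
        exact hw ((mem_support_cycleOf_iff.1 this).1)
    rw [heq]; exact hcy
  · rw [hyb, coord]
    congr 1
    funext l
    rcases Fin.eq_self_or_eq_succAbove j l with rfl | ⟨l, rfl⟩
    · rw [Pi.mulSingle_eq_same, hd]
    · rw [Pi.mulSingle_eq_of_ne (Fin.succAbove_ne j l), hone]

/-- coordinate cycles are conjugate by elements of the wreath product in `G` -/
theorem exists_conj_coord {G : Subgroup (Perm (Fin k → Fin m))} (hG : Big G) {L : ℕ} (hL2 : L + 2 ≤ m)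
    (i j : Fin k) {c d : Perm (Fin m)} (hc : c.IsCycle) (hd : d.IsCycle) (hcc : c.support.card = L)
    (hdc : d.support.card = L) : ∃ h ∈ G, InW h ∧ h * coord i c * h⁻¹ = coord j d := by
  classical
  obtain ⟨g, hg, τ, hτ⟩ := hG.perm (swap i j)
  have hgc : g * coord i c * g⁻¹ = coord j (τ j * c * (τ j)⁻¹) := by
    rw [mul_inv_eq_iff_eq_mul]
    refine Equiv.ext fun f => funext fun l => ?_
    rw [Perm.mul_apply, Perm.mul_apply, hτ, Equiv.symm_swap]
    rcases eq_or_ne l j with rfl | hl
    · rw [coord_self, swap_apply_right, coord_self, hτ, Equiv.symm_swap, swap_apply_right]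
      simp
    · rw [coord_ne hl, hτ, Equiv.symm_swap, coord_ne fun e => hl (by simpa using congrArg (swap i j) e)]
  have hc' : (τ j * c * (τ j)⁻¹).IsCycle := hc.conj
  obtain ⟨u, hu⟩ := (isConj_iff.1 (hc'.isConj hd (by rw [card_support_conj, hcc, hdc])))
  obtain ⟨u', hu's, hu'⟩ : ∃ u' : Perm (Fin m), sign u' = 1 ∧ u' * (τ j * c * (τ j)⁻¹) * u'⁻¹ = d := by
    rcases Int.units_eq_one_or (sign u) with h | h
    · exact ⟨u, h, hu⟩
    obtain ⟨a, ha, b, hb, hab⟩ := Finset.one_lt_card.1 (show 1 < d.supportᶜ.card by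
      rw [Finset.card_compl, Fintype.card_fin, hdc]; omega)
    rw [Finset.mem_compl, Perm.notMem_support] at ha hb
    have hs : swap a b * d = d * swap a b := by
      have := Equiv.mul_swap_eq_swap_mul d a b
      rw [ha, hb] at this
      exact this.symm
    refine ⟨swap a b * u, by rw [map_mul, sign_swap hab, h]; rfl, ?_⟩
    rw [show swap a b * u * (τ j * c * (τ j)⁻¹) * (swap a b * u)⁻¹ =
      swap a b * (u * (τ j * c * (τ j)⁻¹) * u⁻¹) * (swap a b)⁻¹ by group, hu, hs, mul_inv_cancel_right]
  refine ⟨coord j u' * g, G.mul_mem (hG.coord_mem j u' hu's) hg,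
    (wreath k m).mul_mem (inW_coord j u') ⟨_, τ, hτ⟩, ?_⟩
  rw [show coord j u' * g * coord i c * (coord j u' * g)⁻¹ = coord j u' * (g * coord i c * g⁻¹) * (coord j u')⁻¹ by
    group, hgc, ← coord_inv, ← coord_mul, ← coord_mul, hu']

/-- the centraliser property: whatever commutes with a coordinate cycle of the given length is in the wreath
product -/
def CentInW (L : ℕ) (G : Subgroup (Perm (Fin k → Fin m))) : Prop :=
  ∀ (i : Fin k) (c : Perm (Fin m)), c.IsCycle → c.support.card = L → ∀ g ∈ G, Commute g (coord i c) → InW g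

/-- an element carrying a coordinate cycle into the wreath product is in it -/
theorem inW_of_conj {q e : ℕ} (hq : q.Prime) (he : 1 ≤ e) (hL : m < 2 * q ^ e) (hL2 : q ^ e + 2 ≤ m)
    {G : Subgroup (Perm (Fin (k + 1) → Fin m))} (hG : Big G) (hcent : CentInW (q ^ e) G)
    {i : Fin (k + 1)} {c : Perm (Fin m)} (hc : c.IsCycle) (hcard : c.support.card = q ^ e)
    {g : Perm (Fin (k + 1) → Fin m)} (hg : g ∈ G) (hy : InW (g * coord i c * g⁻¹)) : InW g := by
  obtain ⟨j, d, hd, hdc, hgd⟩ := exists_coord_of_conj hq he hL hL2 hc hcard hy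
  obtain ⟨h, hh, hhW, hhd⟩ := exists_conj_coord hG hL2 i j hc hd hcard hdc
  have hcomm : Commute (h⁻¹ * g) (coord i c) := by
    have hk : (h⁻¹ * g) * coord i c * (h⁻¹ * g)⁻¹ = coord i c := by
      rw [show (h⁻¹ * g) * coord i c * (h⁻¹ * g)⁻¹ = h⁻¹ * (g * coord i c * g⁻¹) * h by group, hgd, ← hhd]
      group
    exact mul_inv_eq_iff_eq_mul.1 hk
  have h1 : InW (h⁻¹ * g) := hcent i c hc hcard _ (G.mul_mem (G.inv_mem hh) hg) hcomm
  have := (wreath (k + 1) m).mul_mem hhW h1
  rwa [mul_inv_cancel_left] at this

end CfsgLib.Perm.Product
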