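import Mathlib

/-!
The product action of `S_m ≀ S_k` on functions, and the automorphisms of the Hamming graph.
-/

set_option autoImplicit false
set_option linter.unusedSectionVars false

namespace CfsgLib.Perm.Product

open Function

variable {k m : ℕ}

/-- `σ` is an element of the wreath product in product action -/
def InW (σ : Equiv.Perm (Fin k → Fin m)) : Prop :=
  ∃ (π : Equiv.Perm (Fin k)) (τ : Fin k → Equiv.Perm (Fin m)),
    ∀ (f : Fin k → Fin m) (i : Fin k), σ f i = τ i (f (π.symm i))

/-- the wreath product in product action -/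
def wreath (k m : ℕ) : Subgroup (Equiv.Perm (Fin k → Fin m)) where
  carrier := {σ | InW σ}
  one_mem' := ⟨1, fun _ => 1, fun f i => rfl⟩
  mul_mem' := by
    rintro a b ⟨π, τ, ha⟩ ⟨π', τ', hb⟩
    refine ⟨π * π', fun i => τ i * τ' (π.symm i), fun f i => ?_⟩
    rw [Equiv.Perm.mul_apply, ha, hb]
    rfl
  inv_mem' := by
    rintro a ⟨π, τ, ha⟩
    refine ⟨π⁻¹, fun i => (τ (π i))⁻¹, fun f i => ?_⟩
    have := ha (a⁻¹ f) (π i)
    rw [show a (a⁻¹ f) = f from a.apply_symm_apply f, Equiv.symm_apply_apply] at this
    show (a⁻¹ f) i = (τ (π i)).symm (f (π i))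
    rw [this, Equiv.symm_apply_apply]

theorem mem_wreath {σ : Equiv.Perm (Fin k → Fin m)} : σ ∈ wreath k m ↔ InW σ := Iff.rfl

/-- adjacency in the Hamming graph: exactly one coordinate differs -/
def Adj (f g : Fin k → Fin m) : Prop := ∃ i, f i ≠ g i ∧ ∀ j, j ≠ i → f j = g j

theorem adj_update (f : Fin k → Fin m) (i : Fin k) {v : Fin m} (hv : v ≠ f i) : Adj f (update f i v) :=
  ⟨i, by rw [update_self]; exact hv.symm, fun j hj => by rw [update_of_ne hj]⟩

theorem Adj.symm {f g : Fin k → Fin m} (h : Adj f g) : Adj g f := by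
  obtain ⟨i, h1, h2⟩ := h
  exact ⟨i, h1.symm, fun j hj => (h2 j hj).symm⟩

theorem Adj.ne {f g : Fin k → Fin m} (h : Adj f g) : f ≠ g := by
  obtain ⟨i, h1, -⟩ := h
  exact fun e => h1 (by rw [e])

theorem Adj.eq_update {f g : Fin k → Fin m} {i : Fin k} (h : Adj f g) (hi : f i ≠ g i) :
    g = update f i (g i) := by
  obtain ⟨j, -, hj⟩ := h
  have : i = j := by by_contra hne; exact hi (hj i hne)
  subst this
  funext l
  rcases eq_or_ne l i with rfl | hl
  · rw [update_self]
  · rw [update_of_ne hl, hj l hl]

/-- the neighbours of a point in two directions are not adjacent -/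
theorem not_adj_update {f : Fin k → Fin m} {i j : Fin k} (hij : i ≠ j) {v w : Fin m} (hv : v ≠ f i) (hw : w ≠ f j) :
    ¬ Adj (update f i v) (update f j w) := by
  rintro ⟨l, -, hl⟩
  rcases eq_or_ne l i with rfl | hli
  · have := hl j (Ne.symm hij)
    rw [update_of_ne (Ne.symm hij), update_self] at this
    exact hw this.symm
  · have := hl i (Ne.symm hli)
    rw [update_self, update_of_ne hij] at this
    exact hv this

/-- two neighbours in one direction are adjacent or equal -/
theorem adj_or_eq_of_update (f : Fin k → Fin m) (i : Fin k) (v w : Fin m) :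
    update f i v = update f i w ∨ Adj (update f i v) (update f i w) := by
  rcases eq_or_ne v w with rfl | hvw
  · exact Or.inl rfl
  · exact Or.inr ⟨i, by rw [update_self, update_self]; exact hvw, fun j hj => by rw [update_of_ne hj, update_of_ne hj]⟩

/-- a permutation preserving adjacency lies in the wreath product -/
theorem inW_of_adj (σ : Equiv.Perm (Fin k → Fin m)) (hσ : ∀ f g, Adj f g → Adj (σ f) (σ g)) : InW σ := by
  classical
  -- adjacency is also reflected
  have hiff : ∀ f g, Adj (σ f) (σ g) → Adj f g := by
    intro f g h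
    obtain ⟨E, hE⟩ : ∃ E : Finset ((Fin k → Fin m) × (Fin k → Fin m)),
        E = Finset.univ.filter fun p => Adj p.1 p.2 := ⟨_, rfl⟩
    obtain ⟨φ, hφ⟩ : ∃ φ : ((Fin k → Fin m) × (Fin k → Fin m)) ↪ ((Fin k → Fin m) × (Fin k → Fin m)),
        φ = σ.toEmbedding.prodMap σ.toEmbedding := ⟨_, rfl⟩
    have hsub : E.map φ = E := by
      refine Finset.eq_of_subset_of_card_le (fun p hp => ?_) (by rw [Finset.card_map])
      rw [Finset.mem_map] at hp
      obtain ⟨a, ha, rfl⟩ := hp
      rw [hE, Finset.mem_filter] at ha ⊢
      exact ⟨Finset.mem_univ _, by rw [hφ]; exact hσ _ _ ha.2⟩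
    have : (σ f, σ g) ∈ E.map φ := by
      rw [hsub, hE]
      exact Finset.mem_filter.2 ⟨Finset.mem_univ _, h⟩
    rw [Finset.mem_map] at this
    obtain ⟨a, ha, he⟩ := this
    rw [hφ] at he
    simp only [Function.Embedding.prodMap, Function.Embedding.coeFn_mk, Prod.map_apply', Prod.mk.injEq,
      Equiv.toEmbedding_apply, EmbeddingLike.apply_eq_iff_eq] at he
    rw [hE, Finset.mem_filter] at ha
    rw [← he.1, ← he.2]
    exact ha.2
  by_cases hm : m ≤ 1
  · refine ⟨1, fun _ => 1, fun f i => Fin.ext ?_⟩
    have h1 := (σ f i).isLt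
    have h2 := ((1 : Equiv.Perm (Fin m)) (f ((1 : Equiv.Perm (Fin k)).symm i))).isLt
    omega
  push Not at hm
  obtain ⟨f0, -⟩ : ∃ f0 : Fin k → Fin m, True := ⟨fun _ => ⟨0, by omega⟩, trivial⟩
  -- the image direction of every direction at every point
  have hdir : ∀ (f : Fin k → Fin m) (i : Fin k), ∃ a, ∀ v, ∀ b, b ≠ a → σ (update f i v) b = σ f b := by
    intro f i
    obtain ⟨v0, hv0⟩ : ∃ v0 : Fin m, v0 ≠ f i := by
      by_cases h0 : f i = ⟨0, by omega⟩
      · exact ⟨⟨1, by omega⟩, fun e => by rw [h0, Fin.mk.injEq] at e; omega⟩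
      · exact ⟨⟨0, by omega⟩, Ne.symm h0⟩
    obtain ⟨a, ha, ha'⟩ := hσ _ _ (adj_update f i hv0)
    refine ⟨a, fun v b hb => ?_⟩
    rcases eq_or_ne v (f i) with rfl | hv
    · rw [update_eq_self]
    rcases adj_or_eq_of_update f i v v0 with he | he
    · rw [he]; exact (ha' b hb).symm
    obtain ⟨c, hc, hc'⟩ := hσ _ _ (adj_update f i hv)
    obtain ⟨d, hd, hd'⟩ := hσ _ _ he
    have hca : c = a := by
      by_contra hne
      have e1 : σ (update f i v) c = σ (update f i v0) c → False := fun e => hc (by rw [e, ha' c hne])
      have e2 : σ (update f i v) a = σ (update f i v0) a → False := fun e =>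
        ha (by rw [hc' a (Ne.symm hne), e])
      have hcd : c = d := by by_contra h; exact e1 (hd' c h)
      have had : a = d := by by_contra h; exact e2 (hd' a h)
      exact hne (hcd.trans had.symm)
    subst hca
    exact (hc' b hb).symm
  choose D hD using hdir
  have hne' : ∀ (f : Fin k → Fin m) (i : Fin k) (v : Fin m), v ≠ f i → σ f (D f i) ≠ σ (update f i v) (D f i) := by
    intro f i v hv e
    refine (adj_update f i hv).ne (σ.injective (funext fun b => ?_))
    rcases eq_or_ne b (D f i) with rfl | hb
    · exact e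
    · exact (hD f i v b hb).symm
  have hother : ∀ x : Fin m, ∃ v : Fin m, v ≠ x := fun x => by
    by_cases h0 : x = ⟨0, by omega⟩
    · exact ⟨⟨1, by omega⟩, fun e => by rw [h0, Fin.mk.injEq] at e; omega⟩
    · exact ⟨⟨0, by omega⟩, Ne.symm h0⟩
  have hDinj : ∀ f, Function.Injective (D f) := by
    intro f i j e
    by_contra hij
    obtain ⟨v, hv⟩ := hother (f i)
    obtain ⟨w, hw⟩ := hother (f j)
    refine not_adj_update hij hv hw (hiff _ _ ?_)
    refine ⟨D f i, fun e' => ?_, fun b hb => by rw [hD f i v b hb, hD f j w b (e ▸ hb)]⟩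
    have : update f i v = update f j w := σ.injective (funext fun b => by
      rcases eq_or_ne b (D f i) with rfl | hb
      · exact e'
      · rw [hD f i v b hb, hD f j w b (e ▸ hb)])
    have := congrFun this i
    rw [update_self, update_of_ne hij] at this
    exact hv this
  -- moving along another direction changes neither the direction nor the value
  have hsquare : ∀ (f : Fin k → Fin m) (i j : Fin k), i ≠ j → ∀ v w,
      σ (update (update f j w) i v) (D f i) = σ (update f i v) (D f i) ∧ D (update f j w) i = D f i := by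
    intro f i j hij
    have hab : D f i ≠ D f j := fun e => hij (hDinj f e)
    have key : ∀ v w, v ≠ f i → w ≠ f j →
        σ (update (update f j w) i v) (D f i) = σ (update f i v) (D f i) ∧ D (update f j w) i = D f i := by
      intro v w hv hw
      obtain ⟨x, hx⟩ : ∃ x, x = σ (update (update f j w) i v) := ⟨_, rfl⟩
      have hvj : v ≠ update f j w i := by rwa [update_of_ne hij]
      have a1 : Adj (σ (update f j w)) x := hx ▸ hσ _ _ (adj_update _ i hvj)
      have a2 : Adj (σ (update f i v)) x := by
        rw [hx, update_comm (Ne.symm hij)]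
        exact hσ _ _ (adj_update _ j (by rwa [update_of_ne (Ne.symm hij)]))
      have na : ¬ Adj (σ f) x := fun h => by
        obtain ⟨l, -, hl⟩ := hiff _ _ (hx ▸ h)
        rcases eq_or_ne l i with rfl | hli
        · have := hl j (Ne.symm hij)
          rw [update_of_ne (Ne.symm hij), update_self] at this
          exact hw this.symm
        · have := hl i (Ne.symm hli)
          rw [update_self] at this
          exact hv this.symm
      obtain ⟨c, hc, hc'⟩ := a1
      obtain ⟨d, hd, hd'⟩ := a2
      have hxf : x ≠ σ f := fun e => by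
        have := congrFun (σ.injective (hx.symm.trans e)) i
        rw [update_self] at this
        exact hv this
      have eg : ∀ b, b ≠ D f i → σ (update f i v) b = σ f b := hD f i v
      have eh : ∀ b, b ≠ D f j → σ (update f j w) b = σ f b := hD f j w
      have hga := hne' f i v hv
      have hhb := hne' f j w hw
      have hc1 : c = D f i := by
        by_contra hne
        have e1 : x (D f i) = σ f (D f i) := by rw [← hc' _ (Ne.symm hne), eh _ hab]
        by_cases hcb : c = D f j
        · refine na ?_
          refine ⟨D f j, fun e => hxf (funext fun b => ?_), fun b hb => ?_⟩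
          · rcases eq_or_ne b (D f j) with rfl | hb
            · exact e.symm
            · rw [← hc' b (hcb ▸ hb), eh b hb]
          · rw [← hc' b (hcb ▸ hb), eh b hb]
        · have e2 : x (D f j) = σ (update f j w) (D f j) := (hc' _ (Ne.symm hcb)).symm
          have hdb : d = D f j := by
            by_contra h
            exact hhb (by rw [← e2, ← hd' _ (Ne.symm h), eg _ (Ne.symm hab)])
          have hda : d = D f i := by
            by_contra h
            exact hga (by rw [← e1, ← hd' _ (Ne.symm h)])
          exact hab (hda.symm.trans hdb)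
      subst hc1
      have hd1 : d = D f j := by
        by_contra h
        exact hhb (by rw [hc' _ (Ne.symm hab), ← hd' _ (Ne.symm h), eg _ (Ne.symm hab)])
      refine ⟨by rw [← hx, hd' _ (by rw [hd1]; exact hab)], ?_⟩
      by_contra hne
      have e := hD (update f j w) i v (D f i) (Ne.symm hne)
      rw [← hx] at e
      exact hc e.symm
    intro v w
    rcases eq_or_ne w (f j) with rfl | hw
    · rw [update_eq_self]; exact ⟨rfl, rfl⟩
    obtain ⟨v', hv'⟩ := hother (f i)
    have hD' := (key v' w hv' hw).2
    refine ⟨?_, hD'⟩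
    rcases eq_or_ne v (f i) with rfl | hv
    · rw [update_eq_self, update_comm (Ne.symm hij), update_eq_self]
      exact hD f j w _ hab
    · exact (key v w hv hw).1
  have hself : ∀ (f : Fin k → Fin m) (i : Fin k) (w : Fin m), D (update f i w) i = D f i := by
    intro f i w
    by_contra hne
    obtain ⟨v, hv⟩ := hother w
    have h1 := hne' (update f i w) i v (by rwa [update_self])
    rw [update_idem, hD f i w _ hne, hD f i v _ hne] at h1
    exact h1 rfl
  -- everything is determined at one point
  have hconst : ∀ (f : Fin k → Fin m) (i : Fin k) (v : Fin m),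
      σ (update f i v) (D f0 i) = σ (update f0 i v) (D f0 i) ∧ D f i = D f0 i := by
    intro f i
    suffices ∀ s : Finset (Fin k), ∀ v,
        σ (update (s.piecewise f f0) i v) (D f0 i) = σ (update f0 i v) (D f0 i) ∧ D (s.piecewise f f0) i = D f0 i by
      simpa using this Finset.univ
    intro s
    induction s using Finset.induction_on with
    | empty => intro v; simp
    | insert j t hj ih =>
      intro v
      rw [Finset.piecewise_insert]
      obtain ⟨e1, e2⟩ := ih v
      rcases eq_or_ne i j with rfl | hij
      · rw [update_idem, hself, e2]; exact ⟨e1, rfl⟩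
      · obtain ⟨s1, s2⟩ := hsquare (t.piecewise f f0) i j hij v (f j)
        rw [e2] at s1 s2
        exact ⟨s1.trans e1, s2⟩
  have hDb : Function.Bijective (D f0) := Finite.injective_iff_bijective.1 (hDinj f0)
  obtain ⟨π, hπ⟩ : ∃ π : Equiv.Perm (Fin k), ∀ i, π i = D f0 i := ⟨Equiv.ofBijective _ hDb, fun i => rfl⟩
  have hτ : ∀ i, Function.Injective fun v => σ (update f0 i v) (D f0 i) := by
    intro i v w e
    have : update f0 i v = update f0 i w := σ.injective (funext fun b => by
      rcases eq_or_ne b (D f0 i) with rfl | hb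
      · exact e
      · rw [hD f0 i v b hb, hD f0 i w b hb])
    simpa using congrFun this i
  refine ⟨π, fun a => Equiv.ofBijective _ (Finite.injective_iff_bijective.1 (hτ (π.symm a))), fun f a => ?_⟩
  obtain ⟨i, rfl⟩ := π.surjective a
  simp only [Equiv.symm_apply_apply, Equiv.ofBijective_apply]
  show σ f (π i) = σ (update f0 i (f i)) (D f0 i)
  rw [← (hconst f i (f i)).1, update_eq_self, hπ]

end CfsgLib.Perm.Product
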