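import Mathlib
import Cfsg.Agent.Lib.Perm.Product.Hamming

/-!
The product action split at one coordinate: coordinate permutations, permutations of the remaining
coordinates, and the subgroups containing enough of the wreath product.
-/

set_option autoImplicit false
set_option linter.unusedSectionVars false

namespace CfsgLib.Perm.Product

open Equiv Equiv.Perm Function

variable {k m : ℕ}

/-- the coordinate permutation and coordinate values -/
theorem InW.of_pi (π : Perm (Fin k)) (τ : Fin k → Perm (Fin m)) :
    InW (((Equiv.arrowCongr π (Equiv.refl (Fin m))).trans (Equiv.piCongrRight τ) :) : Perm (Fin k → Fin m)) :=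
  ⟨π, τ, fun _ _ => rfl⟩

/-- the base element with values `τ` -/
def base (τ : Fin k → Perm (Fin m)) : Perm (Fin k → Fin m) := Equiv.piCongrRight τ

@[simp] theorem base_apply (τ : Fin k → Perm (Fin m)) (f : Fin k → Fin m) (j : Fin k) :
    base τ f j = τ j (f j) := rfl

theorem inW_base (τ : Fin k → Perm (Fin m)) : InW (base τ) := ⟨1, τ, fun _ _ => rfl⟩

theorem base_mul (τ τ' : Fin k → Perm (Fin m)) : base (τ * τ') = base τ * base τ' := rfl

theorem base_one : base (1 : Fin k → Perm (Fin m)) = 1 := rfl

theorem base_inv (τ : Fin k → Perm (Fin m)) : base τ⁻¹ = (base τ)⁻¹ := rfl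

/-- one coordinate -/
def coord (i : Fin k) (c : Perm (Fin m)) : Perm (Fin k → Fin m) := base (Pi.mulSingle i c)

theorem coord_apply (i : Fin k) (c : Perm (Fin m)) (f : Fin k → Fin m) :
    coord i c f = update f i (c (f i)) := by
  funext j
  rcases eq_or_ne j i with rfl | h
  · simp [coord]
  · simp [coord, h]

theorem coord_self (i : Fin k) (c : Perm (Fin m)) (f : Fin k → Fin m) : coord i c f i = c (f i) := by
  rw [coord_apply, update_self]

theorem coord_ne {i j : Fin k} (h : j ≠ i) (c : Perm (Fin m)) (f : Fin k → Fin m) : coord i c f j = f j := by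
  rw [coord_apply, update_of_ne h]

theorem coord_mul (i : Fin k) (c d : Perm (Fin m)) : coord i (c * d) = coord i c * coord i d := by
  rw [coord, coord, coord, ← base_mul, Pi.mulSingle_mul]

theorem coord_one (i : Fin k) : coord i (1 : Perm (Fin m)) = 1 := by
  rw [coord, Pi.mulSingle_one, base_one]

theorem coord_inv (i : Fin k) (c : Perm (Fin m)) : coord i c⁻¹ = (coord i c)⁻¹ := by
  rw [coord, coord, ← base_inv, Pi.mulSingle_inv]

theorem inW_coord (i : Fin k) (c : Perm (Fin m)) : InW (coord i c) := inW_base _

section Split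

variable (i : Fin (k + 1))

/-- the splitting at `i` -/
def split : Fin m × (Fin k → Fin m) ≃ (Fin (k + 1) → Fin m) := Fin.insertNthEquiv (fun _ => Fin m) i

theorem split_apply_same (v : Fin m) (p : Fin k → Fin m) : split i (v, p) i = v :=
  Fin.insertNth_apply_same (α := fun _ => Fin m) i v p

theorem split_apply_succAbove (v : Fin m) (p : Fin k → Fin m) (j : Fin k) :
    split i (v, p) (i.succAbove j) = p j :=
  Fin.insertNth_apply_succAbove (α := fun _ => Fin m) i v p j

theorem split_symm_apply (f : Fin (k + 1) → Fin m) :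
    (split i).symm f = (f i, fun j => f (i.succAbove j)) := rfl

theorem eq_split (f : Fin (k + 1) → Fin m) : f = split i (f i, fun j => f (i.succAbove j)) :=
  ((split i).apply_symm_apply f).symm

/-- a permutation of the coordinate `i` times a permutation of the other coordinates -/
def put (c : Perm (Fin m)) (w : Perm (Fin k → Fin m)) : Perm (Fin (k + 1) → Fin m) :=
  (split i).permCongr (Equiv.prodCongr c w)

theorem put_split (c : Perm (Fin m)) (w : Perm (Fin k → Fin m)) (v : Fin m) (p : Fin k → Fin m) :
    put i c w (split i (v, p)) = split i (c v, w p) := by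
  simp [put, Equiv.permCongr_apply]

theorem put_mul (c d : Perm (Fin m)) (w z : Perm (Fin k → Fin m)) :
    put i (c * d) (w * z) = put i c w * put i d z := by
  refine Equiv.ext fun f => ?_
  rw [eq_split i f, Perm.mul_apply, put_split, put_split, put_split]
  rfl

theorem put_one : put i (1 : Perm (Fin m)) (1 : Perm (Fin k → Fin m)) = 1 := by
  refine Equiv.ext fun f => ?_
  rw [eq_split i f, put_split]
  rfl

theorem put_coord (c : Perm (Fin m)) : put i c (1 : Perm (Fin k → Fin m)) = coord i c := by
  refine Equiv.ext fun f => ?_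
  rw [eq_split i f, put_split]
  funext j
  rcases Fin.eq_self_or_eq_succAbove i j with rfl | ⟨j, rfl⟩
  · rw [split_apply_same, coord_self, split_apply_same]
  · rw [split_apply_succAbove, coord_ne (Fin.succAbove_ne i j), split_apply_succAbove]; rfl

theorem put_coord_other (j : Fin k) (c : Perm (Fin m)) : put i 1 (coord j c) = coord (i.succAbove j) c := by
  refine Equiv.ext fun f => ?_
  rw [eq_split i f, put_split]
  funext l
  rcases Fin.eq_self_or_eq_succAbove i l with h | ⟨l, rfl⟩
  · subst h
    rw [split_apply_same, coord_ne (Fin.succAbove_ne l j).symm, split_apply_same]; rfl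
  · rw [split_apply_succAbove]
    rcases eq_or_ne l j with rfl | h
    · rw [coord_self, coord_self, split_apply_succAbove]
    · rw [coord_ne h, coord_ne (fun e => h (Fin.succAbove_right_injective e)), split_apply_succAbove]

theorem inW_put (c : Perm (Fin m)) {w : Perm (Fin k → Fin m)} (hw : InW w) : InW (put i c w) := by
  obtain ⟨π, τ, hw⟩ := hw
  obtain ⟨σ, hσi, hσs⟩ : ∃ σ : Perm (Fin (k + 1)), σ i = i ∧ ∀ l, σ (i.succAbove l) = i.succAbove (π l) :=
    ⟨((finSuccEquiv' i).trans (Equiv.optionCongr π)).trans (finSuccEquiv' i).symm, by simp, fun l => by simp⟩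
  refine ⟨σ, Fin.insertNth (α := fun _ => Perm (Fin m)) i c τ, fun f l => ?_⟩
  conv_lhs => rw [eq_split i f, put_split]
  rcases Fin.eq_self_or_eq_succAbove i l with rfl | ⟨l, rfl⟩
  · rw [split_apply_same, Fin.insertNth_apply_same, (Equiv.symm_apply_eq _).2 hσi.symm]
  · rw [split_apply_succAbove, Fin.insertNth_apply_succAbove, hw,
      (Equiv.symm_apply_eq σ).2 (show i.succAbove l = σ (i.succAbove (π.symm l)) by rw [hσs, Equiv.apply_symm_apply])]

theorem sign_put (c : Perm (Fin m)) (w : Perm (Fin k → Fin m)) :
    sign (put i c w) = sign c ^ m ^ k * sign w ^ m := by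
  rw [put, sign_permCongr]
  have e : Equiv.prodCongr c w =
      Equiv.prodCongrLeft (fun _ : Fin k → Fin m => c) * Equiv.prodCongrRight (fun _ : Fin m => w) := by
    refine Equiv.ext fun x => ?_
    rfl
  rw [e, map_mul, sign_prodCongrLeft, sign_prodCongrRight, Finset.prod_const, Finset.prod_const,
    Finset.card_univ, Finset.card_univ, Fintype.card_fun, Fintype.card_fin, Fintype.card_fin]

theorem put_injective {c d : Perm (Fin m)} {w z : Perm (Fin k → Fin m)} (h : put i c w = put i d z)
    (v : Fin m) (p : Fin k → Fin m) : c v = d v ∧ w p = z p := by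
  have := congrArg (fun g : Perm (Fin (k + 1) → Fin m) => g (split i (v, p))) h
  simp only [put_split, EmbeddingLike.apply_eq_iff_eq, Prod.mk.injEq] at this
  exact this

end Split

theorem sign_coord_pow (i : Fin (k + 1)) (c : Perm (Fin m)) : sign (coord i c) = sign c ^ m ^ k := by
  rw [← put_coord, sign_put, map_one, one_pow, mul_one]

/-- the subgroups with enough of the wreath product -/
structure Big (G : Subgroup (Perm (Fin k → Fin m))) : Prop where
  even : ∀ g, InW g → sign g = 1 → g ∈ G
  perm : ∀ π : Perm (Fin k), ∃ g ∈ G, ∃ τ : Fin k → Perm (Fin m), ∀ f j, g f j = τ j (f (π.symm j))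

theorem Big.mono {G H : Subgroup (Perm (Fin k → Fin m))} (hG : Big G) (h : G ≤ H) : Big H :=
  ⟨fun g hg hs => h (hG.even g hg hs), fun π => (hG.perm π).imp fun _ hg => ⟨h hg.1, hg.2⟩⟩

theorem sign_eq_one_of_sq {x : ℤˣ} : x * x = 1 := Int.units_mul_self x

/-- two coordinate permutations of equal sign -/
theorem Big.coord_coord_mem {G : Subgroup (Perm (Fin k → Fin m))} (hG : Big G) (i j : Fin k)
    (c d : Perm (Fin m)) (h : sign c = sign d) : coord i c * coord j d ∈ G := by
  obtain ⟨k, rfl⟩ : ∃ k', k = k' + 1 := ⟨k - 1, by have := i.isLt; omega⟩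
  refine hG.even _ ((wreath _ _).mul_mem (inW_coord i c) (inW_coord j d)) ?_
  rw [map_mul, sign_coord_pow, sign_coord_pow, h, ← mul_pow, Int.units_mul_self, one_pow]

/-- even coordinate permutations -/
theorem Big.coord_mem {G : Subgroup (Perm (Fin k → Fin m))} (hG : Big G) (i : Fin k)
    (c : Perm (Fin m)) (h : sign c = 1) : coord i c ∈ G := by
  simpa [coord_one] using hG.coord_coord_mem i i c 1 (by rw [h, map_one])

end CfsgLib.Perm.Product
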