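import Cfsg.Agent.Lib.Perm.Product.Top

/-!
Both halves of the maximality theorem from the dichotomy: the overgroups of the even part have enough of the
wreath product.
-/

set_option autoImplicit false
set_option linter.unusedSectionVars false

namespace CfsgLib.Perm.Product

open Equiv Equiv.Perm Function

variable {k m : ℕ}

/-- permuting the coordinates -/
def shuffle (π : Perm (Fin k)) : Perm (Fin k → Fin m) := Equiv.arrowCongr π (Equiv.refl (Fin m))

theorem shuffle_apply (π : Perm (Fin k)) (f : Fin k → Fin m) (j : Fin k) : shuffle π f j = f (π.symm j) := rfl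

theorem inW_coordPerm (π : Perm (Fin k)) : InW (shuffle (m := m) π) := ⟨π, fun _ => 1, fun _ _ => rfl⟩

theorem shuffle_mul (π ρ : Perm (Fin k)) : (shuffle (π * ρ) : Perm (Fin k → Fin m)) = shuffle π * shuffle ρ :=
  Equiv.ext fun _ => funext fun _ => rfl

theorem shuffle_one : (shuffle 1 : Perm (Fin k → Fin m)) = 1 := Equiv.ext fun _ => funext fun _ => rfl

/-- the number of pairs moved by a transposition of coordinates -/
theorem sign_shuffle_swap {n : ℕ} (a b : Fin (n + 1)) (hab : a ≠ b) :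
    sign (shuffle (m := m) (swap a b)) = (-1) ^ ((m ^ (n + 1) - m ^ n) / 2) := by
  classical
  obtain ⟨σ, hσ⟩ : ∃ σ : Perm (Fin (n + 1) → Fin m), σ = shuffle (swap a b) := ⟨_, rfl⟩
  rw [← hσ]
  have hsq : σ ^ 2 = 1 := by rw [hσ, pow_two, ← shuffle_mul, swap_mul_self, shuffle_one]
  have hmem : ∀ f : Fin (n + 1) → Fin m, σ f = f ↔ f a = f b := by
    intro f
    rw [hσ]
    constructor
    · intro h
      have := congrFun h a
      rw [shuffle_apply, Equiv.symm_swap, swap_apply_left] at this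
      exact this.symm
    · intro h
      funext j
      rw [shuffle_apply, Equiv.symm_swap]
      rcases eq_or_ne j a with rfl | ha
      · rw [swap_apply_left, h]
      rcases eq_or_ne j b with rfl | hb
      · rw [swap_apply_right, h]
      · rw [swap_apply_of_ne_of_ne ha hb]
  have hfix : Fintype.card {f : Fin (n + 1) → Fin m // σ f = f} = m ^ n := by
    rw [Fintype.card_congr (Equiv.subtypeEquivRight hmem)]
    obtain ⟨b', hb'⟩ := Fin.exists_succAbove_eq hab.symm
    obtain ⟨E, -⟩ : ∃ E : {f : Fin (n + 1) → Fin m // f a = f b} ≃ (Fin n → Fin m), True := by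
      refine ⟨Equiv.ofBijective (fun f l => f.1 (a.succAbove l)) ⟨fun f f' h => ?_, fun p => ?_⟩, trivial⟩
      · refine Subtype.ext (funext fun j => ?_)
        have e := congrFun h
        rcases Fin.eq_self_or_eq_succAbove a j with rfl | ⟨l, rfl⟩
        · exact f.2.trans ((congrArg f.1 hb'.symm).trans ((e b').trans ((congrArg f'.1 hb').trans f'.2.symm)))
        · exact e l
      · refine ⟨⟨Fin.insertNth (α := fun _ => Fin m) a (p b') p, by
          rw [Fin.insertNth_apply_same, ← hb', Fin.insertNth_apply_succAbove]⟩, funext fun l => ?_⟩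
        exact Fin.insertNth_apply_succAbove (α := fun _ => Fin m) a (p b') p l
    rw [Fintype.card_congr E, Fintype.card_fun, Fintype.card_fin, Fintype.card_fin]
  have hsup : σ.support.card = m ^ (n + 1) - m ^ n := by
    have h1 : Fintype.card {f : Fin (n + 1) → Fin m // σ f = f} + σ.support.card = m ^ (n + 1) := by
      rw [Fintype.card_subtype, show (Finset.univ.filter fun f => σ f = f) = σ.supportᶜ from
        Finset.ext fun v => by simp, Finset.card_compl_add_card, Fintype.card_fun, Fintype.card_fin, Fintype.card_fin]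
    omega
  rw [sign_of_cycleType]
  have hall : ∀ x ∈ σ.cycleType, x = 2 := fun x hx =>
    (Nat.prime_dvd_prime_iff_eq Nat.prime_two Nat.prime_two).1 (dvd_refl 2) |> fun _ => by
      have h1 := (dvd_of_mem_cycleType hx).trans (orderOf_dvd_of_pow_eq_one hsq)
      have h2 := two_le_of_mem_cycleType hx
      exact le_antisymm (Nat.le_of_dvd two_pos h1) h2
  obtain ⟨t, ht⟩ : ∃ t, σ.cycleType = Multiset.replicate t 2 := ⟨_, Multiset.eq_replicate_card.2 hall⟩
  have hsum := sum_cycleType σ
  rw [ht, Multiset.sum_replicate, smul_eq_mul, hsup] at hsum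
  rw [ht, Multiset.sum_replicate, Multiset.card_replicate, smul_eq_mul, ← hsum, Nat.mul_div_cancel _ two_pos,
    pow_add, pow_mul, Int.units_pow_two, one_mul]

theorem four_dvd_pow {m n : ℕ} (hm : Even m) (hn : 2 ≤ n) : 4 ∣ m ^ n := by
  obtain ⟨t, rfl⟩ := hm
  obtain ⟨s, rfl⟩ := Nat.exists_eq_add_of_le hn
  exact ⟨t ^ 2 * (t + t) ^ s, by ring⟩

/-- permutations of the coordinates are even for even `m`, but for two coordinates with `m % 4 = 2` -/
theorem sign_shuffle_even (hk : 2 ≤ k) (hm : Even m) (hex : ¬ (k = 2 ∧ m % 4 = 2)) (π : Perm (Fin k)) :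
    sign (shuffle (m := m) π) = 1 := by
  obtain ⟨n, rfl⟩ : ∃ n, k = n + 1 := ⟨k - 1, by omega⟩
  induction π using swap_induction_on with
  | one => rw [shuffle_one, map_one]
  | swap_mul π a b hab ih =>
    rw [shuffle_mul, map_mul, ih, mul_one, sign_shuffle_swap a b hab]
    have h4 : 4 ∣ m ^ (n + 1) - m ^ n := by
      by_cases hn : n = 1
      · subst hn
        have h4m : 4 ∣ m := by
          obtain ⟨t, rfl⟩ := hm
          omega
        rw [pow_one, pow_two]
        exact Nat.dvd_sub (h4m.mul_right m) h4m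
      · exact Nat.dvd_sub (four_dvd_pow hm (by omega)) (four_dvd_pow hm (by omega))
    obtain ⟨t, ht⟩ := h4
    rw [ht, show 4 * t / 2 = 2 * t by omega, pow_mul, Int.units_pow_two, one_pow]

theorem big_of_even (hm : 2 ≤ m) (hk : 2 ≤ k) (hex : ¬ (k = 2 ∧ m % 4 = 2))
    {G : Subgroup (Perm (Fin k → Fin m))} (h : wreath k m ⊓ alternatingGroup _ ≤ G) : Big G := by
  refine ⟨fun g hg hs => h ⟨hg, mem_alternatingGroup.2 hs⟩, fun π => ?_⟩
  rcases Nat.even_or_odd m with hme | hmo
  · exact ⟨shuffle π, h ⟨inW_coordPerm π, mem_alternatingGroup.2 (sign_shuffle_even hk hme hex π)⟩, fun _ => 1,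
      fun f j => rfl⟩
  rcases Int.units_eq_one_or (sign (shuffle (m := m) π)) with hs | hs
  · exact ⟨shuffle π, h ⟨inW_coordPerm π, mem_alternatingGroup.2 hs⟩, fun _ => 1, fun f j => rfl⟩
  obtain ⟨n, rfl⟩ : ∃ n, k = n + 1 := ⟨k - 1, by omega⟩
  obtain ⟨c, hc⟩ : ∃ c : Perm (Fin m), sign c = -1 :=
    ⟨swap ⟨0, by omega⟩ ⟨1, by omega⟩, sign_swap (by simp)⟩
  refine ⟨coord 0 c * shuffle π, h ⟨(wreath _ m).mul_mem (inW_coord 0 c) (inW_coordPerm π), ?_⟩,
    fun j => Pi.mulSingle (M := fun _ => Perm (Fin m)) 0 c j, fun f j => ?_⟩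
  · show coord 0 c * shuffle π ∈ alternatingGroup _
    rw [mem_alternatingGroup, map_mul, sign_coord_pow, hc, hs, (hmo.pow).neg_one_pow]
    rfl
  · rw [Perm.mul_apply, coord, base_apply, shuffle_apply]

theorem big_of_full {G : Subgroup (Perm (Fin k → Fin m))} (h : wreath k m ≤ G) : Big G :=
  ⟨fun _ hg _ => h hg, fun π => ⟨shuffle π, h (inW_coordPerm π), fun _ => 1, fun _ _ => rfl⟩⟩

/-- both halves -/
theorem halves_of_dich (hm : 5 ≤ m) (hk : 2 ≤ k) (hd : Dich m k) :
    (¬ (k = 2 ∧ m % 4 = 2) → ∃ M : Subgroup ↥(alternatingGroup (Fin k → Fin m)), IsCoatom M ∧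
      ∀ σ : ↥(alternatingGroup (Fin k → Fin m)), σ ∈ M ↔ InW (σ : Perm (Fin k → Fin m))) ∧
    ((∃ σ : Perm (Fin k → Fin m), sign σ = -1 ∧ InW σ) →
      ∃ M : Subgroup (Perm (Fin k → Fin m)), IsCoatom M ∧ ∀ σ, σ ∈ M ↔ InW σ) := by
  refine ⟨fun hex => (coatoms_of_overgroups (by omega) hk fun G hG => ?_).1, ?_⟩
  · exact (hd G (big_of_even (by omega) hk hex hG)).symm.imp id fun h g hg => h g hg
  · rintro ⟨s, hs, hsW⟩
    exact coatom_perm_of_overgroups (by omega) hk
      (fun G hG => (hd G (big_of_full hG)).symm.imp id fun h g hg => h g hg) hs hsW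

end CfsgLib.Perm.Product
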