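import Cfsg.Agent.Lib.Perm.Product.Core
import Mathlib.NumberTheory.Bertrand
import Mathlib.GroupTheory.Perm.Cycle.Concrete

/-!
Two even cycles of the same prime length above `m` which meet in one point only and move it inside a slice.
-/

set_option autoImplicit false

namespace CfsgLib.Perm.Product

open Equiv Equiv.Perm Function

/-- a cycle through two given points with the prescribed prime length -/
theorem formPerm_facts {α : Type*} [DecidableEq α] [Fintype α] {l : ℕ} (hl : Odd l) (hl2 : 2 ≤ l) {x y : α}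
    {L : List α} (hn : (x :: y :: L).Nodup) (hlen : L.length + 2 = l) :
    sign (x :: y :: L).formPerm = 1 ∧ (x :: y :: L).formPerm ^ l = 1 ∧ (x :: y :: L).formPerm x = y := by
  have hlen' : (x :: y :: L).length = l := by simp only [List.length_cons]; omega
  have hne : ∀ z, (x :: y :: L) ≠ [z] := fun z h => by simp at h
  refine ⟨?_, ?_, List.formPerm_apply_head x y L hn⟩
  · rw [(List.isCycle_formPerm hn (hlen' ▸ hl2)).sign, List.support_formPerm_of_nodup _ hn hne,
      List.toFinset_card_of_nodup hn, hlen', hl.neg_one_pow, neg_neg]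
  · rw [← hlen']; exact List.formPerm_pow_length_eq_one_of_nodup _ hn

theorem exists_pair_cycles {k m : ℕ} (hm : 5 ≤ m) (hk : 2 ≤ k) :
    ∃ (l : ℕ) (j : Fin k) (v : Fin m) (w1 w2 : Perm (Fin k → Fin m)) (q0 : Fin k → Fin m), l.Prime ∧ m < l ∧
      sign w1 = 1 ∧ sign w2 = 1 ∧ w1 ^ l = 1 ∧ w2 ^ l = 1 ∧ (∀ u, w1 u ≠ u → w2 u ≠ u → u = q0) ∧
      w1 q0 ≠ q0 ∧ w2 q0 ≠ q0 ∧ q0 j = v ∧ w1 q0 j = v ∧ w2 q0 j = v := by
  classical
  obtain ⟨l, hl, hml, hl2⟩ := Nat.exists_prime_lt_and_le_two_mul m (by omega)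
  have hodd : Odd l := hl.odd_of_ne_two (by omega)
  obtain ⟨j, hj⟩ : ∃ j : Fin k, (j : ℕ) = 0 := ⟨⟨0, by omega⟩, rfl⟩
  obtain ⟨i, hi⟩ : ∃ i : Fin k, (i : ℕ) = 1 := ⟨⟨1, by omega⟩, rfl⟩
  have hij : j ≠ i := fun h => by rw [h, hi] at hj; omega
  obtain ⟨q, hq⟩ : ∃ q : Fin m → (Fin k → Fin m), q = fun t => update (fun _ => (⟨0, by omega⟩ : Fin m)) i t := ⟨_, rfl⟩
  have hqj : ∀ t, q t j = ⟨0, by omega⟩ := fun t => by rw [hq]; exact update_of_ne hij _ _
  have hqinj : ∀ {s t : Fin m}, q s = q t → s = t := fun {s t} h => by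
    have := congrFun h i
    rw [hq] at this
    simpa using this
  obtain ⟨x, hx⟩ : ∃ x, x = q ⟨0, by omega⟩ := ⟨_, rfl⟩
  obtain ⟨a, ha⟩ : ∃ a, a = q ⟨1, by omega⟩ := ⟨_, rfl⟩
  obtain ⟨b, hb⟩ : ∃ b, b = q ⟨2, by omega⟩ := ⟨_, rfl⟩
  have hxa : x ≠ a := fun h => by rw [hx, ha] at h; have := congrArg Fin.val (hqinj h); simp at this
  have hxb : x ≠ b := fun h => by rw [hx, hb] at h; have := congrArg Fin.val (hqinj h); simp at this
  have hab : a ≠ b := fun h => by rw [ha, hb] at h; have := congrArg Fin.val (hqinj h); simp at this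
  have h3 : ({x, a, b} : Finset (Fin k → Fin m)).card ≤ 3 := Finset.card_le_three
  have hbig : 2 * (l - 2) ≤ ({x, a, b} : Finset (Fin k → Fin m))ᶜ.card := by
    rw [Finset.card_compl, Fintype.card_fun, Fintype.card_fin, Fintype.card_fin]
    have h1 : m * m ≤ m ^ k := by rw [← pow_two]; exact Nat.pow_le_pow_right (by omega) hk
    have h2 : 5 * m ≤ m * m := Nat.mul_le_mul_right m hm
    omega
  obtain ⟨s, hs, hsc⟩ := Finset.exists_subset_card_eq (n := l - 2) (le_trans (by omega) hbig)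
  obtain ⟨t, ht, htc⟩ := Finset.exists_subset_card_eq (s := ({x, a, b} : Finset (Fin k → Fin m))ᶜ \ s) (n := l - 2)
    (by rw [Finset.card_sdiff_of_subset hs]; omega)
  have hts : ∀ u ∈ t, u ∉ s := fun u hu => (Finset.mem_sdiff.1 (ht hu)).2
  have hout : ∀ u, (u ∈ s ∨ u ∈ t) → u ≠ x ∧ u ≠ a ∧ u ≠ b := fun u hu => by
    have : u ∈ ({x, a, b} : Finset (Fin k → Fin m))ᶜ := hu.elim (fun h => hs h) fun h => (Finset.mem_sdiff.1 (ht h)).1
    simpa only [Finset.mem_compl, Finset.mem_insert, Finset.mem_singleton, not_or] using this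
  have hn1 : (x :: a :: s.toList).Nodup := by
    simp only [List.nodup_cons, List.mem_cons, Finset.mem_toList, not_or]
    exact ⟨⟨hxa, fun h => (hout x (Or.inl h)).1 rfl⟩, fun h => (hout a (Or.inl h)).2.1 rfl, s.nodup_toList⟩
  have hn2 : (x :: b :: t.toList).Nodup := by
    simp only [List.nodup_cons, List.mem_cons, Finset.mem_toList, not_or]
    exact ⟨⟨hxb, fun h => (hout x (Or.inr h)).1 rfl⟩, fun h => (hout b (Or.inr h)).2.2 rfl, t.nodup_toList⟩
  obtain ⟨e1, e2, e3⟩ := formPerm_facts hodd hl.two_le hn1 (by rw [Finset.length_toList, hsc]; omega)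
  obtain ⟨f1, f2, f3⟩ := formPerm_facts hodd hl.two_le hn2 (by rw [Finset.length_toList, htc]; omega)
  refine ⟨l, j, ⟨0, by omega⟩, _, _, x, hl, hml, e1, f1, e2, f2, fun u h1 h2 => ?_, ?_, ?_, ?_, ?_, ?_⟩
  · have m1 := List.mem_of_formPerm_apply_ne h1
    have m2 := List.mem_of_formPerm_apply_ne h2
    simp only [List.mem_cons, Finset.mem_toList] at m1 m2
    rcases m1 with h | h | h
    · exact h
    · rcases m2 with h' | h' | h'
      · exact h'
      · exact absurd (h.symm.trans h') hab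
      · exact absurd h (hout u (Or.inr h')).2.1
    · rcases m2 with h' | h' | h'
      · exact h'
      · exact absurd h' (hout u (Or.inl h)).2.2
      · exact absurd h (hts u h')
  · rw [e3]; exact hxa.symm
  · rw [f3]; exact hxb.symm
  · rw [hx, hqj]
  · rw [e3, ha, hqj]
  · rw [f3, hb, hqj]

end CfsgLib.Perm.Product
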