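import Cfsg.Agent.Lib.Perm.MinimalDegree
import Cfsg.Agent.Lib.KnownC.HallPermBasic

/-!
A subgroup of the alternating group of index below `(n - 1)(n - 2)/4`, with a part fixing just one point, contains
the alternating group of the other points.
-/

set_option autoImplicit false
set_option linter.unusedSectionVars false

namespace CfsgLib.Perm.Product

open Equiv Equiv.Perm Finset

variable {α : Type*} [Fintype α] [DecidableEq α]

/-- binomial coefficients away from both ends are at least the second one -/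
theorem choose_two_le {n r : ℕ} (h2 : 2 ≤ r) (hr : r + 2 ≤ n) : n.choose 2 ≤ n.choose r := by
  have key : ∀ s, 2 ≤ s → s ≤ n / 2 → n.choose 2 ≤ n.choose s := by
    intro s hs
    induction s, hs using Nat.le_induction with
    | base => exact fun _ => le_rfl
    | succ s _ ih => exact fun h => (ih (by omega)).trans (Nat.choose_le_succ_of_lt_half_left (by omega))
  by_cases h : r ≤ n / 2
  · exact key r h2 h
  · rw [← Nat.choose_symm (show r ≤ n by omega)]
    exact key _ (by omega) (by omega)

/-- two sets of equal size avoiding a point, moved by an even permutation fixing the point -/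
theorem exists_even_map_avoid (q0 : α) {s t : Finset α} (hc : s.card = t.card) (h2 : 2 ≤ s.card) (hs : q0 ∉ s)
    (ht : q0 ∉ t) : ∃ g ∈ alternatingGroup α, g q0 = q0 ∧ s.map g.toEmbedding = t := by
  classical
  have hc' : (insert q0 s).card = (insert q0 t).card := by
    rw [Finset.card_insert_of_notMem hs, Finset.card_insert_of_notMem ht, hc]
  obtain ⟨e⟩ : Nonempty ({x // x ∈ s} ≃ {x // x ∈ t}) := ⟨Fintype.equivOfCardEq (by simpa using hc)⟩
  let e' : {x // x ∈ insert q0 s} ≃ {x // x ∈ insert q0 t} :=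
    { toFun := fun x => if h : (x : α) ∈ s then ⟨e ⟨x, h⟩, Finset.mem_insert_of_mem (e ⟨x, h⟩).2⟩
        else ⟨q0, Finset.mem_insert_self _ _⟩
      invFun := fun x => if h : (x : α) ∈ t then ⟨e.symm ⟨x, h⟩, Finset.mem_insert_of_mem (e.symm ⟨x, h⟩).2⟩
        else ⟨q0, Finset.mem_insert_self _ _⟩
      left_inv := fun x => by
        rcases Finset.mem_insert.1 x.2 with hx | hx
        · have h1 : ¬ ((x : α) ∈ s) := fun h => hs (hx ▸ h)
          simp only [dif_neg h1, dif_neg ht]
          exact Subtype.ext hx.symm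
        · simp [hx]
      right_inv := fun x => by
        rcases Finset.mem_insert.1 x.2 with hx | hx
        · have h1 : ¬ ((x : α) ∈ t) := fun h => ht (hx ▸ h)
          simp only [dif_neg h1, dif_neg hs]
          exact Subtype.ext hx.symm
        · simp [hx] }
  have hg : ∀ x (hx : x ∈ insert q0 s), e'.extendSubtype x = e' ⟨x, hx⟩ := fun x hx =>
    Equiv.extendSubtype_apply_of_mem e' x hx
  have hq : e'.extendSubtype q0 = q0 := by
    rw [hg q0 (Finset.mem_insert_self _ _)]
    show ((if h : q0 ∈ s then _ else _ : {x // x ∈ insert q0 t}) : α) = q0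
    rw [dif_neg hs]
  have hm : ∀ x ∈ s, e'.extendSubtype x ∈ t := fun x hx => by
    rw [hg x (Finset.mem_insert_of_mem hx)]
    show ((if h : x ∈ s then _ else _ : {x // x ∈ insert q0 t}) : α) ∈ t
    rw [dif_pos hx]
    exact (e ⟨x, hx⟩).2
  obtain ⟨g, hg'⟩ : ∃ g : Equiv.Perm α, g = e'.extendSubtype := ⟨_, rfl⟩
  rw [← hg'] at hq hm
  have key : ∀ k : Equiv.Perm α, k q0 = q0 → (∀ x ∈ s, k x ∈ t) → s.map k.toEmbedding = t := fun k _ hk => by
    refine Finset.eq_of_subset_of_card_le (fun y hy => ?_) (by rw [Finset.card_map, hc])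
    rw [Finset.mem_map] at hy
    obtain ⟨x, hx, rfl⟩ := hy
    exact hk x hx
  rcases Int.units_eq_one_or (sign g) with h | h
  · exact ⟨g, mem_alternatingGroup.2 h, hq, key g hq hm⟩
  obtain ⟨a, ha, b, hb, hab⟩ := Finset.one_lt_card.1 (show 1 < s.card by omega)
  have hk0 : (g * swap a b) q0 = q0 := by
    rw [Perm.mul_apply, swap_apply_of_ne_of_ne (fun e => hs (by rw [e]; exact ha)) (fun e => hs (by rw [e]; exact hb)), hq]
  refine ⟨g * swap a b, mem_alternatingGroup.2 (by rw [Perm.sign_mul, h, sign_swap hab]; rfl), hk0,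
    key _ hk0 fun x hx => hm _ ?_⟩
  rw [swap_apply_def]
  split_ifs
  exacts [hb, ha, hx]

/-- the even permutations fixing a point -/
def altFix (q0 : α) : Subgroup (Perm α) := alternatingGroup α ⊓ MulAction.stabilizer (Perm α) q0

theorem mem_altFix {q0 : α} {g : Perm α} : g ∈ altFix q0 ↔ g ∈ alternatingGroup α ∧ g q0 = q0 := Iff.rfl

/-- a subgroup with an invariant set has large index -/
theorem choose_le_relIndex {q0 : α} {H : Subgroup (Perm α)} {s : Finset α} (h2 : 2 ≤ s.card) (hs : q0 ∉ s)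
    (hinv : ∀ g ∈ H, ∀ x ∈ s, g x ∈ s) :
    (Fintype.card α - 1).choose s.card ≤ H.relIndex (altFix q0) := by
  classical
  obtain ⟨T, hT⟩ : ∃ T : Finset (Finset α), T = (Finset.univ.erase q0).powersetCard s.card := ⟨_, rfl⟩
  have hTc : T.card = (Fintype.card α - 1).choose s.card := by
    rw [hT, Finset.card_powersetCard, Finset.card_erase_of_mem (Finset.mem_univ _), Finset.card_univ]
  have hfix : ∀ g ∈ H, s.map g.toEmbedding = s := fun g hg => by
    refine Finset.eq_of_subset_of_card_le (fun y hy => ?_) (by rw [Finset.card_map])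
    rw [Finset.mem_map] at hy
    obtain ⟨x, hx, rfl⟩ := hy
    exact hinv g hg x hx
  let F : altFix q0 ⧸ H.subgroupOf (altFix q0) → {t // t ∈ T} := Quotient.lift
    (fun g : altFix q0 => ⟨s.map (g : Perm α).toEmbedding, by
      rw [hT, Finset.mem_powersetCard, Finset.card_map]
      refine ⟨fun y hy => ?_, rfl⟩
      rw [Finset.mem_map] at hy
      obtain ⟨x, hx, rfl⟩ := hy
      refine Finset.mem_erase.2 ⟨fun e => hs ?_, Finset.mem_univ _⟩
      have : x = q0 := (g : Perm α).injective ((e.trans (mem_altFix.1 g.2).2.symm) : (g : Perm α) x = (g : Perm α) q0)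
      rwa [this] at hx⟩)
    (fun a b hab => by
      have hm : (a⁻¹ * b : altFix q0) ∈ H.subgroupOf (altFix q0) := QuotientGroup.leftRel_apply.1 hab
      have := hfix _ hm
      refine Subtype.ext ?_
      show s.map (a : Perm α).toEmbedding = s.map (b : Perm α).toEmbedding
      conv_lhs => rw [← this]
      rw [Finset.map_map]
      congr 1
      ext x
      show (a : Perm α) (((a⁻¹ * b : altFix q0) : Perm α) x) = (b : Perm α) x
      rw [← Perm.mul_apply, ← Subgroup.coe_mul, mul_inv_cancel_left])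
  have hF : Function.Surjective F := by
    rintro ⟨t, ht⟩
    rw [hT, Finset.mem_powersetCard] at ht
    obtain ⟨g, hgA, hgq, hgs⟩ := exists_even_map_avoid q0 ht.2.symm h2 hs
      (fun h => (Finset.mem_erase.1 (ht.1 h)).1 rfl)
    exact ⟨QuotientGroup.mk ⟨g, hgA, hgq⟩, Subtype.ext hgs⟩
  have := Nat.card_le_card_of_surjective F hF
  rw [Nat.card_eq_fintype_card, Fintype.card_coe, hTc] at this
  exact this

/-- An overgroup in the alternating group of a group fixing one point only. -/
theorem altFix_le_of_small_index (hN : 25 ≤ Fintype.card α) {H : Subgroup (Perm α)} (hH : H ≤ alternatingGroup α)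
    (hidx : 4 * H.relIndex (alternatingGroup α) < (Fintype.card α - 1) * (Fintype.card α - 2)) {q0 : α}
    (hfix : ∀ q, q ≠ q0 → ∃ h ∈ H, h q0 = q0 ∧ h q ≠ q) :
    ∀ σ ∈ alternatingGroup α, σ q0 = q0 → σ ∈ H := by
  classical
  obtain ⟨n, hn⟩ : ∃ n, n = Fintype.card α := ⟨_, rfl⟩
  rw [← hn] at hidx hN
  obtain ⟨A, hA⟩ : ∃ A, A = alternatingGroup α := ⟨_, rfl⟩
  rw [← hA] at hidx hH
  obtain ⟨K, hK⟩ : ∃ K, K = H ⊓ altFix q0 := ⟨_, rfl⟩
  have hA0 : altFix q0 ≤ A := by rw [hA]; exact inf_le_left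
  have hKA0 : K ≤ altFix q0 := hK ▸ inf_le_right
  have hKi : K.relIndex (altFix q0) ≤ H.relIndex A := by
    rw [hK, Subgroup.inf_relIndex_right]
    exact Subgroup.relIndex_le_of_le_right hA0 (by rw [Subgroup.relIndex]; exact Subgroup.index_ne_zero_of_finite)
  have hKmem : ∀ g ∈ H, g q0 = q0 → g ∈ K := fun g hg hq => by
    rw [hK]; exact ⟨hg, by rw [← hA]; exact hH hg, hq⟩
  have hbound : H.relIndex A < (n - 1).choose 2 := by
    rw [Nat.choose_two_right, show n - 1 - 1 = n - 2 by omega]
    have : 24 * 23 ≤ (n - 1) * (n - 2) := Nat.mul_le_mul (by omega) (by omega)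
    omega
  -- the point stabiliser is transitive on the other points
  have htr : ∀ a, a ≠ q0 → ∀ b, b ≠ q0 → ∃ g ∈ K, g a = b := by
    intro a ha b hb
    by_contra hno
    obtain ⟨s, hs⟩ : ∃ s : Finset α, s = Finset.univ.filter fun y => ∃ g ∈ K, g a = y := ⟨_, rfl⟩
    have hmem : ∀ y, y ∈ s ↔ ∃ g ∈ K, g a = y := fun y => by simp [hs]
    have hq0 : q0 ∉ s := fun h => by
      obtain ⟨g, hg, e⟩ := (hmem _).1 h
      exact ha (g.injective (e.trans (mem_altFix.1 (hKA0 hg)).2.symm))
    have hb' : b ∉ s := fun h => hno ((hmem _).1 h)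
    have hinv : ∀ g ∈ K, ∀ x ∈ s, g x ∈ s := fun g hg x hx => by
      obtain ⟨g', hg', rfl⟩ := (hmem _).1 hx
      exact (hmem _).2 ⟨g * g', K.mul_mem hg hg', rfl⟩
    have hclose : ∀ g ∈ K, ∀ x, g x ∈ s → x ∈ s := fun g hg x hx => by
      simpa using hinv g⁻¹ (K.inv_mem hg) _ hx
    have hmove : ∀ y, y ≠ q0 → ∃ g ∈ K, g y ≠ y := fun y hy => by
      obtain ⟨h, hh, h0, h1⟩ := hfix y hy
      exact ⟨h, hKmem h hh h0, h1⟩
    have h2 : 2 ≤ s.card := by
      obtain ⟨g, hg, hga⟩ := hmove a ha
      exact Finset.one_lt_card.2 ⟨a, (hmem _).2 ⟨1, K.one_mem, rfl⟩, g a, (hmem _).2 ⟨g, hg, rfl⟩, Ne.symm hga⟩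
    have h3 : s.card + 3 ≤ n := by
      obtain ⟨g, hg, hgb⟩ := hmove b hb
      have hgb0 : g b ≠ q0 := fun e => hb (g.injective (e.trans (mem_altFix.1 (hKA0 hg)).2.symm))
      have hd : Disjoint s ({q0, b, g b} : Finset α) := by
        rw [Finset.disjoint_left]
        intro x hx hx'
        simp only [Finset.mem_insert, Finset.mem_singleton] at hx'
        rcases hx' with rfl | rfl | rfl
        exacts [hq0 hx, hb' hx, hb' (hclose g hg b hx)]
      have hc := Finset.card_union_of_disjoint hd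
      rw [show ({q0, b, g b} : Finset α).card = 3 by
        rw [Finset.card_eq_three]; exact ⟨q0, b, g b, hb.symm, hgb0.symm, hgb.symm, rfl⟩] at hc
      have := Finset.card_le_univ (s ∪ {q0, b, g b})
      rw [hn]; omega
    have h4 := choose_le_relIndex h2 hq0 hinv
    rw [← hn] at h4
    have h5 := choose_two_le h2 (show s.card + 2 ≤ n - 1 by omega)
    omega
  by_cases hfixall : ∀ g ∈ H, g q0 = q0
  · -- everything fixes the point
    have hHK : H = K := le_antisymm (fun g hg => hKmem g hg (hfixall g hg)) (hK ▸ inf_le_left)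
    have hn0 : (altFix q0).relIndex A = n := by
      rw [hn, altFix, hA, Subgroup.inf_relIndex_left]
      have e : (MulAction.stabilizer (Perm α) q0).relIndex (alternatingGroup α) =
          (MulAction.stabilizer (alternatingGroup α) q0).index := by
        rw [Subgroup.relIndex]
        congr 1
      rw [e]
      haveI : MulAction.IsPretransitive (alternatingGroup α) α :=
        alternatingGroup.isPretransitive_of_three_le_card α (by rw [Nat.card_eq_fintype_card]; omega)
      rw [MulAction.index_stabilizer_of_transitive, Nat.card_eq_fintype_card]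
    have hmul : H.relIndex (altFix q0) * n = H.relIndex A := by
      rw [← hn0]
      exact Subgroup.relIndex_mul_relIndex _ _ _ (hHK ▸ hKA0) hA0
    obtain ⟨H', hH'⟩ : ∃ H' : Subgroup (Perm {x // x ≠ q0}),
        H' = H.comap (Perm.ofSubtype : Perm {x // x ≠ q0} →* Perm α) := ⟨_, rfl⟩
    have hrange : (alternatingGroup {x // x ≠ q0}).map (Perm.ofSubtype : Perm {x // x ≠ q0} →* Perm α) =
        altFix q0 := by
      ext g
      constructor
      · rintro ⟨k, hk, rfl⟩
        refine ⟨mem_alternatingGroup.2 ((sign_ofSubtype k).trans (mem_alternatingGroup.1 hk)), ?_⟩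
        exact Perm.ofSubtype_apply_of_not_mem k (by simp)
      · intro hg
        have hx : ∀ x, (x ≠ q0 ↔ g x ≠ q0) := fun x => by
          conv_rhs => rw [← (mem_altFix.1 hg).2]
          exact g.injective.ne_iff.symm
        have e : Perm.ofSubtype (g.subtypePerm fun x => (hx x).symm : Perm {x // x ≠ q0}) = g :=
          Perm.ofSubtype_subtypePerm _ fun x hxne e => hxne (by rw [e]; exact (mem_altFix.1 hg).2)
        exact ⟨_, mem_alternatingGroup.2 (by rw [← sign_ofSubtype, e]; exact mem_alternatingGroup.1 (mem_altFix.1 hg).1), e⟩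
    have hH'i : H'.relIndex (alternatingGroup {x // x ≠ q0}) = H.relIndex (altFix q0) := by
      rw [hH', ← hrange, Subgroup.relIndex_comap]
    have hc : Fintype.card {x // x ≠ q0} = n - 1 := by
      rw [Fintype.card_subtype_compl, Fintype.card_subtype_eq, hn]
    have hle : alternatingGroup {x // x ≠ q0} ≤ H' := by
      refine CfsgLib.KnownC.HallPerm.alternating_le_of_small_index (G := alternatingGroup {x // x ≠ q0}) (by omega) le_rfl ?_
      rw [hH'i, hc]
      have hlt : H.relIndex (altFix q0) < n - 2 := by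
        by_contra hh
        push Not at hh
        have h6 := Nat.mul_le_mul_right n hh
        rw [hmul] at h6
        have h7 : (n - 1) * (n - 2) ≤ n * (n - 2) := Nat.mul_le_mul_right _ (by omega)
        rw [mul_comm (n - 2) n] at h6
        omega
      have e1 : (n - 1).factorial = (n - 1) * (n - 2).factorial := by
        rw [show n - 1 = n - 2 + 1 by omega, Nat.factorial_succ]
      have e2 : (H.relIndex (altFix q0)).factorial ≤ (n - 2).factorial := Nat.factorial_le (by omega)
      have e3 : 3 * (n - 2).factorial ≤ (n - 1) * (n - 2).factorial := Nat.mul_le_mul_right _ (by omega)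
      have := Nat.factorial_pos (n - 2)
      rw [e1]; omega
    intro σ hσ hσ0
    obtain ⟨k, hk, rfl⟩ := hrange.ge (show σ ∈ altFix q0 from ⟨hσ, hσ0⟩)
    have := hle hk
    rwa [hH'] at this
  -- doubly transitive
  push Not at hfixall
  obtain ⟨g0, hg0, hg0'⟩ := hfixall
  have hto : ∀ c, ∃ g ∈ H, g c = q0 := fun c => by
    rcases eq_or_ne c q0 with rfl | hc
    · exact ⟨1, H.one_mem, rfl⟩
    obtain ⟨k, hk, hkc⟩ := htr (g0 q0) hg0' c hc
    refine ⟨(k * g0)⁻¹, H.inv_mem (H.mul_mem ((hK.le hk).1) hg0), ?_⟩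
    rw [← hkc]
    exact Perm.inv_eq_iff_eq.2 rfl
  have h2t : ∀ a b c d : α, a ≠ b → c ≠ d → ∃ h : H, h • a = c ∧ h • b = d := by
    intro a b c d hab hcd
    obtain ⟨g1, hg1, e1⟩ := hto a
    obtain ⟨g2, hg2, e2⟩ := hto c
    obtain ⟨k, hk, hk'⟩ := htr (g1 b) (fun e => hab (g1.injective (e1.trans e.symm)))
      (g2 d) (fun e => hcd (g2.injective (e2.trans e.symm)))
    refine ⟨⟨g2⁻¹ * k * g1, H.mul_mem (H.mul_mem (H.inv_mem hg2) (hK.le hk).1) hg1⟩, ?_, ?_⟩
    · show g2⁻¹ (k (g1 a)) = c
      rw [e1, (mem_altFix.1 (hKA0 hk)).2, ← e2, ← Perm.mul_apply, inv_mul_cancel, Perm.one_apply]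
    · show g2⁻¹ (k (g1 b)) = d
      rw [hk', ← Perm.mul_apply, inv_mul_cancel, Perm.one_apply]
  by_cases h3 : ∃ h : H, (MulAction.toPermHom H α h).IsThreeCycle
  · obtain ⟨⟨t, ht⟩, h3⟩ := h3
    have h3' : t.IsThreeCycle := h3
    haveI : MulAction.IsMultiplyPretransitive H α 2 := by
      refine MulAction.is_two_pretransitive_iff.2 fun {a b c d} hab hcd => ?_
      exact h2t a b c d hab hcd
    have hp : MulAction.IsPreprimitive H α := MulAction.isPreprimitive_of_is_two_pretransitive ‹_›
    intro σ hσ _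
    exact (alternatingGroup_le_of_isPreprimitive_of_isThreeCycle_mem hp h3' ht) hσ
  exfalso
  push Not at h3
  have hsupp : ∀ g ∈ H, (Finset.univ.filter fun z => g z ≠ z).card ≤ 5 → g = 1 := by
    intro g hg hc
    by_contra hg1
    obtain ⟨a, ha⟩ : ∃ a, g a ≠ a := by
      by_contra hno; push Not at hno; exact hg1 (Equiv.ext hno)
    have hb := CfsgLib.MinDegree.bochert (α := α) (G := H) h2t h3 ⟨g, hg⟩ a ha
    rw [← hn] at hb
    have hb' : n - 1 ≤ ((Finset.univ.filter fun z => g z ≠ z).card - 1) ^ 2 := by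
      refine hb.trans (le_of_eq ?_)
      rfl
    have h16 : ((Finset.univ.filter fun z => g z ≠ z).card - 1) ^ 2 ≤ 4 ^ 2 := Nat.pow_le_pow_left (by omega) 2
    omega
  -- three-cycles through the point lie in different cosets
  obtain ⟨T, hT⟩ : ∃ T : Finset (α × α), T = ((Finset.univ.erase q0) ×ˢ (Finset.univ.erase q0)).filter
      fun p => p.1 ≠ p.2 := ⟨_, rfl⟩
  have hTc : T.card = (n - 1) * (n - 2) := by
    have : T = (Finset.univ.erase q0).offDiag := by
      ext p; simp [hT, Finset.mem_offDiag, and_assoc]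
    rw [this, Finset.offDiag_card, Finset.card_erase_of_mem (Finset.mem_univ _), Finset.card_univ, ← hn,
      ← Nat.mul_sub_one, show n - 1 - 1 = n - 2 by omega]
  have hcyc : ∀ p ∈ T, swap q0 p.1 * swap q0 p.2 ∈ A := fun p hp => by
    rw [hT, Finset.mem_filter, Finset.mem_product, Finset.mem_erase, Finset.mem_erase] at hp
    rw [hA, mem_alternatingGroup, Perm.sign_mul, sign_swap (Ne.symm hp.1.1.1), sign_swap (Ne.symm hp.1.2.1)]
    rfl
  let F : {p // p ∈ T} → A ⧸ H.subgroupOf A := fun p => QuotientGroup.mk ⟨_, hcyc p.1 p.2⟩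
  have hFi : Function.Injective F := by
    rintro ⟨p, hp⟩ ⟨p', hp'⟩ e
    rw [QuotientGroup.eq] at e
    have he : (swap q0 p.1 * swap q0 p.2)⁻¹ * (swap q0 p'.1 * swap q0 p'.2) ∈ H := e
    have h1 := hsupp _ he (le_trans (Finset.card_le_card (t := {q0, p.1, p.2, p'.1, p'.2}) ?_) Finset.card_le_five)
    · have h2 := inv_mul_eq_one.1 h1
      rw [hT, Finset.mem_filter, Finset.mem_product, Finset.mem_erase, Finset.mem_erase] at hp hp'
      have e1 : (swap q0 p.1 * swap q0 p.2) p.2 = p.1 := by
        rw [Perm.mul_apply, swap_apply_right, swap_apply_left]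
      have e2 : (swap q0 p.1 * swap q0 p.2) q0 = p.2 := by
        rw [Perm.mul_apply, swap_apply_left, swap_apply_of_ne_of_ne hp.1.2.1 (Ne.symm hp.2)]
      have e3 : (swap q0 p'.1 * swap q0 p'.2) q0 = p'.2 := by
        rw [Perm.mul_apply, swap_apply_left, swap_apply_of_ne_of_ne hp'.1.2.1 (Ne.symm hp'.2)]
      have e4 : (swap q0 p'.1 * swap q0 p'.2) p'.2 = p'.1 := by
        rw [Perm.mul_apply, swap_apply_right, swap_apply_left]
      rw [h2, e3] at e2
      rw [h2, ← e2, e4] at e1
      exact Subtype.ext (Prod.ext e1.symm e2.symm)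
    · intro z hz
      rw [Finset.mem_filter] at hz
      by_contra hmem
      simp only [Finset.mem_insert, Finset.mem_singleton, not_or] at hmem
      obtain ⟨z0, z1, z2, z3, z4⟩ := hmem
      refine hz.2 ?_
      simp [Perm.mul_apply, swap_apply_of_ne_of_ne z0 z1, swap_apply_of_ne_of_ne z0 z2, swap_apply_of_ne_of_ne z0 z3,
        swap_apply_of_ne_of_ne z0 z4, _root_.mul_inv_rev]
  have := Nat.card_le_card_of_injective F hFi
  rw [Nat.card_eq_fintype_card, Fintype.card_coe, hTc] at this
  have h8 : Nat.card (A ⧸ H.subgroupOf A) = H.relIndex A := rfl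
  rw [h8] at this
  omega

end CfsgLib.Perm.Product
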