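import Cfsg.Agent.Lib.Perm.Product.Kernel
import Cfsg.Agent.Lib.Perm.Product.SmallIndex
import Cfsg.Agent.Lib.Perm.Product.PairCycles

/-!
The centraliser of a coordinate cycle lies in the wreath product.
-/

set_option autoImplicit false
set_option linter.unusedSectionVars false
set_option linter.style.haveILetI false

namespace CfsgLib.Perm.Product

open Equiv Equiv.Perm Function MulAction

variable {k m : ℕ} {G : Subgroup (Perm (Fin (k + 1) → Fin m))} (i : Fin (k + 1)) (c : Perm (Fin m))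

theorem IsImg.one : IsImg i c (1 : Perm (Fin (k + 1) → Fin m)) 1 := fun s hs _ => ⟨s, hs, rfl⟩

theorem IsImg.pow {g : Perm (Fin (k + 1) → Fin m)} {w : Perm (Fin k → Fin m)} (h : IsImg i c g w) (n : ℕ) :
    IsImg i c (g ^ n) (w ^ n) := by
  induction n with
  | zero => exact IsImg.one i c
  | succ n ih => exact ih.mul i c h

theorem IsImg.inv (hc : c.IsCycle) {g : Perm (Fin (k + 1) → Fin m)} {w : Perm (Fin k → Fin m)}
    (hg : Commute g (coord i c)) (h : IsImg i c g w) : IsImg i c g⁻¹ w⁻¹ := by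
  obtain ⟨z, hz⟩ := exists_isImg i c hc hg.inv_left
  have h1 := h.mul i c hz
  rw [mul_inv_cancel] at h1
  have h2 := isImg_unique i c hc h1 (IsImg.one i c)
  rwa [inv_eq_of_mul_eq_one_right h2]

/-- the permutations induced on the cycles -/
def imgGroup (hc : c.IsCycle) (G : Subgroup (Perm (Fin (k + 1) → Fin m))) :
    Subgroup (Perm (Fin k → Fin m)) where
  carrier := {w | ∃ g ∈ centCoord G i c, IsImg i c g w}
  one_mem' := ⟨1, one_mem _, IsImg.one i c⟩
  mul_mem' := by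
    rintro w z ⟨g, hg, hw⟩ ⟨h, hh, hz⟩
    exact ⟨g * h, mul_mem hg hh, hw.mul i c hz⟩
  inv_mem' := by
    rintro w ⟨g, hg, hw⟩
    exact ⟨g⁻¹, inv_mem hg, hw.inv i c hc (mem_centCoord.1 hg).2⟩

/-- every element of the wreath product on the other coordinates lifts to the centraliser -/
theorem exists_lift (hG : Big G) {a b : Fin m} (hab : a ≠ b) (ha : c a = a) (hb : c b = b)
    {w : Perm (Fin k → Fin m)} (hw : InW w) :
    ∃ d : Perm (Fin m), put i d w ∈ centCoord G i c ∧ IsImg i c (put i d w) w := by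
  have hdc : Commute (swap a b) c := by
    refine Equiv.Perm.Disjoint.commute fun x => ?_
    rcases eq_or_ne x a with rfl | h1
    · exact Or.inr ha
    rcases eq_or_ne x b with rfl | h2
    · exact Or.inr hb
    exact Or.inl (swap_apply_of_ne_of_ne h1 h2)
  rcases hG.lift i hab hw with h | h
  · exact ⟨1, mem_centCoord.2 ⟨h, commute_put_coord i w (Commute.one_left c)⟩,
      isImg_coord_mul i c (Commute.one_left c)⟩
  · exact ⟨_, mem_centCoord.2 ⟨h, commute_put_coord i w hdc⟩, isImg_coord_mul i c hdc⟩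

theorem sum_bound {m N e : ℕ} (hm : 5 ≤ m) (hN : m ^ 2 ≤ N) (he : 2 * e < m) :
    4 * (e * N) < (N - 1) * (N - 2) := by
  have h1 : 5 * m ≤ m ^ 2 := by nlinarith
  obtain ⟨M, rfl⟩ : ∃ M, N = M + 2 := ⟨N - 2, by omega⟩
  have h2 : 4 * e + 2 ≤ 2 * m := by omega
  simp only [Nat.add_sub_cancel, show M + 2 - 1 = M + 1 by omega]
  nlinarith

/-- the induced group is not alternating: lines go to lines -/
theorem rest_eq_of_alt (hm : 5 ≤ m) (hk : 2 ≤ k) (IH : Dich m k) (hG : Big G)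
    (hA : ¬ alternatingGroup (Fin (k + 1) → Fin m) ≤ G) {q e : ℕ} (hq : q.Prime)
    (hnum : ∀ b j : ℕ, 1 ≤ b → b ≤ m - q ^ e → ¬ m ∣ q ^ j * b) (hbig : m < 2 * q ^ e)
    (hc : c.IsCycle) (hcard : c.support.card = q ^ e)
    (halt : alternatingGroup (Fin k → Fin m) ≤ imgGroup i c hc G)
    {g : Perm (Fin (k + 1) → Fin m)} (hg : g ∈ centCoord G i c) {w : Perm (Fin k → Fin m)}
    (hw : IsImg i c g w) (hws : sign w = 1) (f : Fin (k + 1) → Fin m) :
    (fun l => g f (i.succAbove l)) = w fun l => f (i.succAbove l) := by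
  by_cases hfi : c (f i) = f i
  swap
  · obtain ⟨s', -, e'⟩ := hw (f i) hfi (fun l => f (i.succAbove l))
    rw [← eq_split] at e'
    funext l
    rw [e', split_apply_succAbove]
  obtain ⟨p, hp⟩ : ∃ p, p = fun l => f (i.succAbove l) := ⟨_, rfl⟩
  have hf : f = split i (f i, p) := by rw [hp]; exact eq_split i f
  rw [← hp]
  -- the part induced by the stabiliser of `f`
  obtain ⟨H, hH⟩ : ∃ H : Subgroup (Perm (Fin k → Fin m)), ∀ z, z ∈ H ↔
      sign z = 1 ∧ ∃ h ∈ centCoord G i c, IsImg i c h z ∧ h f = f :=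
    ⟨{ carrier := {z | sign z = 1 ∧ ∃ h ∈ centCoord G i c, IsImg i c h z ∧ h f = f}
       one_mem' := ⟨map_one _, 1, one_mem _, IsImg.one i c, rfl⟩
       mul_mem' := by
        rintro z y ⟨hz, h, hh, hhz, hhf⟩ ⟨hy, h', hh', hhy, hhf'⟩
        exact ⟨by rw [map_mul, hz, hy, one_mul], h * h', mul_mem hh hh', hhz.mul i c hhy,
          by rw [Perm.mul_apply, hhf', hhf]⟩
       inv_mem' := by
        rintro z ⟨hz, h, hh, hhz, hhf⟩
        exact ⟨by rw [Perm.sign_inv, hz], h⁻¹, inv_mem hh, hhz.inv i c hc (mem_centCoord.1 hh).2,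
          by rw [Perm.inv_eq_iff_eq, hhf]⟩ }, fun _ => Iff.rfl⟩
  have hHA : H ≤ alternatingGroup (Fin k → Fin m) := fun z hz => mem_alternatingGroup.2 ((hH z).1 hz).1
  obtain ⟨E, hE⟩ : ∃ E : Finset (Fin m), E = c.supportᶜ := ⟨_, rfl⟩
  have hmE : ∀ x, x ∈ E ↔ c x = x := fun x => by rw [hE, Finset.mem_compl, Equiv.Perm.mem_support, not_not]
  have hEc : E.card = m - q ^ e := by rw [hE, Finset.card_compl, Fintype.card_fin, hcard]
  have hidx : H.relIndex (alternatingGroup (Fin k → Fin m)) ≤ E.card * m ^ k := by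
    rw [Subgroup.relIndex, Subgroup.index_eq_card]
    choose lift hl1 hl2 using fun z : alternatingGroup (Fin k → Fin m) => halt z.2
    refine le_of_le_of_eq (Nat.card_le_card_of_injective
      (f := fun z : alternatingGroup (Fin k → Fin m) ⧸ H.subgroupOf (alternatingGroup (Fin k → Fin m)) =>
        ((⟨lift z.out f i, (hmE _).2 ((commute_fix i c (mem_centCoord.1 (hl1 z.out)).2 f).2 hfi)⟩,
          fun l => lift z.out f (i.succAbove l)) : {a // a ∈ E} × (Fin k → Fin m))) fun z y h => ?_)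
      (by simp [Nat.card_prod, Nat.card_eq_fintype_card])
    have hzy : lift z.out f = lift y.out f := by
      rw [eq_split i (lift z.out f), eq_split i (lift y.out f)]
      simp only [Prod.mk.injEq, Subtype.mk.injEq] at h
      rw [h.1, h.2]
    rw [← QuotientGroup.out_eq' z, ← QuotientGroup.out_eq' y, QuotientGroup.eq, Subgroup.mem_subgroupOf]
    refine (hH _).2 ⟨mem_alternatingGroup.1 (z.out⁻¹ * y.out).2, (lift z.out)⁻¹ * lift y.out,
      mul_mem (inv_mem (hl1 _)) (hl1 _), ?_, by rw [Perm.mul_apply, ← hzy]; simp⟩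
    exact ((hl2 z.out).inv i c hc (mem_centCoord.1 (hl1 _)).2).mul i c (hl2 y.out)
  have hN : 25 ≤ Fintype.card (Fin k → Fin m) := by
    rw [Fintype.card_fun, Fintype.card_fin, Fintype.card_fin]
    calc 25 ≤ m ^ 2 := by nlinarith
      _ ≤ m ^ k := Nat.pow_le_pow_right (by omega) hk
  have hfix : ∀ r, r ≠ p → ∃ h ∈ H, h p = p ∧ h r ≠ r := by
    intro r hr
    obtain ⟨z, hzW, hzs, hzp, hzr⟩ := exists_inW_fix_move hm (Ne.symm hr)
    refine ⟨z, (hH z).2 ⟨hzs, put i 1 z, mem_centCoord.2 ⟨hG.even _ (inW_put i 1 hzW) ?_,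
      commute_put_coord i z (Commute.one_left c)⟩, isImg_coord_mul i c (Commute.one_left c), ?_⟩, hzp, hzr⟩
    · rw [put_one_eq_one_or, hzs, one_pow]
    · rw [hf, put_split, hzp, Perm.one_apply]
  have hsmall := altFix_le_of_small_index hN hHA (q0 := p) (lt_of_le_of_lt (Nat.mul_le_mul le_rfl hidx)
    (by rw [Fintype.card_fun, Fintype.card_fin, Fintype.card_fin]
        exact sum_bound hm (Nat.pow_le_pow_right (by omega) hk) (by rw [hEc]; omega))) hfix
  -- back to `p`
  obtain ⟨z, hzW, hzs, hzp, hzG⟩ := exists_base_map hm hG i p (w p)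
  have hzC : put i 1 z ∈ centCoord G i c :=
    mem_centCoord.2 ⟨hzG, commute_put_coord i z (Commute.one_left c)⟩
  obtain ⟨g', hg'⟩ : ∃ g', g' = (put i 1 z)⁻¹ * g := ⟨_, rfl⟩
  have hw' : IsImg i c g' (z⁻¹ * w) := hg' ▸
    ((isImg_coord_mul i c (Commute.one_left c)).inv i c hc (mem_centCoord.1 hzC).2).mul i c hw
  have hs' : sign (z⁻¹ * w) = 1 := by rw [map_mul, Perm.sign_inv, hzs, hws, one_mul]
  have hfix' : (z⁻¹ * w) p = p := by rw [Perm.mul_apply, Perm.inv_eq_iff_eq, hzp]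
  obtain ⟨-, g₀, hg₀, hg₀w, hg₀f⟩ := (hH _).1 (hsmall _ (mem_alternatingGroup.2 hs') hfix')
  have hg'C : g' ∈ centCoord G i c := hg' ▸ mul_mem (inv_mem hzC) hg
  have hker : IsImg i c (g' * g₀⁻¹) 1 := by
    have := hw'.mul i c (hg₀w.inv i c hc (mem_centCoord.1 hg₀).2)
    rwa [mul_inv_cancel] at this
  obtain ⟨d, hd⟩ := eq_coord_of_img_one i c hm (by omega) IH hG hA hq hnum hbig hc hcard
    (mem_centCoord.1 (mul_mem hg'C (inv_mem hg₀))).1 (mem_centCoord.1 (mul_mem hg'C (inv_mem hg₀))).2 hker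
  have h1 : g' f = coord i d f := by
    rw [← hd, Perm.mul_apply, show g₀⁻¹ f = f by rw [Perm.inv_eq_iff_eq, hg₀f]]
  have h2 : g f = put i 1 z (coord i d f) := by rw [← h1, hg']; simp
  funext l
  rw [h2, hf, coord_split, put_split, split_apply_succAbove, hzp]

/-- the induced group is not alternating -/
theorem not_alt_le_imgGroup (hm : 5 ≤ m) (hk : 2 ≤ k) (IH : Dich m k) (hG : Big G)
    (hA : ¬ alternatingGroup (Fin (k + 1) → Fin m) ≤ G) {q e : ℕ} (hq : q.Prime)
    (hnum : ∀ b j : ℕ, 1 ≤ b → b ≤ m - q ^ e → ¬ m ∣ q ^ j * b) (hbig : m < 2 * q ^ e)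
    (hc : c.IsCycle) (hcard : c.support.card = q ^ e) :
    ¬ alternatingGroup (Fin k → Fin m) ≤ imgGroup i c hc G := by
  intro halt
  obtain ⟨ℓ, j, v, w₁, w₂, p, hℓ, hmℓ, hs₁, hs₂, ho₁, ho₂, hmeet, hm₁, hm₂, hp, hp₁, hp₂⟩ :=
    exists_pair_cycles (k := k) hm hk
  -- lifts that fix every fixed line pointwise
  obtain ⟨t, ht⟩ : ∃ t, m.factorial * t % ℓ = 1 := by
    have hcop : Nat.Coprime ℓ m.factorial := hℓ.coprime_iff_not_dvd.2 fun h => by
      have h2 : ℓ ≤ m := (Nat.Prime.dvd_factorial hℓ).1 h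
      omega
    obtain ⟨t, ht⟩ := Nat.exists_mul_mod_eq_one_of_coprime hcop.symm hℓ.one_lt
    exact ⟨t, ht.2⟩
  have hlift : ∀ w, sign w = 1 → w ^ ℓ = 1 → ∃ g ∈ centCoord G i c,
      (∀ f, (fun l => g f (i.succAbove l)) = w fun l => f (i.succAbove l)) ∧
      (∀ a u, w u = u → g (split i (a, u)) = split i (a, u)) := by
    intro w hw hwℓ
    obtain ⟨g, hg, hgw⟩ := halt (mem_alternatingGroup.2 hw : w ∈ alternatingGroup (Fin k → Fin m))
    have hrest := fun f => rest_eq_of_alt i c hm hk IH hG hA hq hnum hbig hc hcard halt hg hgw hw f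
    have hwe : w ^ (m.factorial * t) = w := by
      conv_lhs => rw [← Nat.mod_add_div (m.factorial * t) ℓ, ht, pow_add, pow_one, pow_mul, hwℓ, one_pow, mul_one]
    refine ⟨g ^ (m.factorial * t), pow_mem hg _, fun f => ?_, fun a u hu => ?_⟩
    · exact rest_eq_of_alt i c hm hk IH hG hA hq hnum hbig hc hcard halt (pow_mem hg _)
        (hwe ▸ hgw.pow i c (m.factorial * t)) hw f
    obtain ⟨σ₀, hσ₀⟩ : ∃ σ₀ : Fin m → Fin m, ∀ b, g (split i (b, u)) = split i (σ₀ b, u) :=
      ⟨fun b => g (split i (b, u)) i, fun b => by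
        conv_lhs => rw [eq_split i (g (split i (b, u))), hrest]
        simp only [split_apply_succAbove, hu]⟩
    have hσi : Injective σ₀ := fun b b' h => by
      have := g.injective ((hσ₀ b).trans (h ▸ (hσ₀ b').symm))
      simpa using this
    obtain ⟨σ, hσ⟩ : ∃ σ : Perm (Fin m), ∀ b, σ b = σ₀ b :=
      ⟨Equiv.ofBijective _ (Finite.injective_iff_bijective.1 hσi), fun _ => rfl⟩
    have hit : ∀ n : ℕ, (g ^ n) (split i (a, u)) = split i ((σ ^ n) a, u) := by
      intro n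
      induction n with
      | zero => rfl
      | succ n ih => rw [pow_succ', Perm.mul_apply, ih, hσ₀, pow_succ', Perm.mul_apply, hσ]
    rw [hit, show σ ^ (m.factorial * t) = 1 from by
      rw [pow_mul, show m.factorial = Fintype.card (Perm (Fin m)) by rw [Fintype.card_perm, Fintype.card_fin],
        pow_card_eq_one, one_pow], Perm.one_apply]
  obtain ⟨g₁, hg₁, hr₁, hf₁⟩ := hlift w₁ hs₁ ho₁
  obtain ⟨g₂, hg₂, hr₂, hf₂⟩ := hlift w₂ hs₂ ho₂
  have hfix : ∀ (g : Perm (Fin (k + 1) → Fin m)) (w : Perm (Fin k → Fin m)),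
      (∀ a u, w u = u → g (split i (a, u)) = split i (a, u)) →
      ∀ f, w (fun l => f (i.succAbove l)) = (fun l => f (i.succAbove l)) → g f = f := by
    intro g w hgf f hf
    have := hgf (f i) _ hf
    rwa [← eq_split] at this
  -- away from three lines the lifts commute
  have hcomm : ∀ f, (fun l => f (i.succAbove l)) ≠ p → w₁ (fun l => f (i.succAbove l)) ≠ p →
      w₂ (fun l => f (i.succAbove l)) ≠ p → g₁ (g₂ f) = g₂ (g₁ f) := by
    intro f hf hf1 hf2
    rcases eq_or_ne (w₁ (fun l => f (i.succAbove l))) (fun l => f (i.succAbove l)) with h1 | h1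
    · rw [hfix g₁ w₁ hf₁ f h1]
      rcases eq_or_ne (w₂ (fun l => f (i.succAbove l))) (fun l => f (i.succAbove l)) with h2 | h2
      · rw [hfix g₂ w₂ hf₂ f h2, hfix g₁ w₁ hf₁ f h1]
      · refine hfix g₁ w₁ hf₁ _ ?_
        rw [hr₂ f]
        by_contra h3
        exact hf2 (hmeet _ h3 fun e' => h2 (w₂.injective e'))
    · have h2 : w₂ (fun l => f (i.succAbove l)) = fun l => f (i.succAbove l) := by
        by_contra h2; exact hf (hmeet _ h1 h2)
      rw [hfix g₂ w₂ hf₂ f h2]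
      refine (hfix g₂ w₂ hf₂ _ ?_).symm
      rw [hr₁ f]
      by_contra h3
      exact hf1 (hmeet _ (fun e' => h1 (w₁.injective e')) h3)
  obtain ⟨z, hz⟩ : ∃ z, z = g₁ * g₂ * g₁⁻¹ * g₂⁻¹ := ⟨_, rfl⟩
  obtain ⟨k', rfl⟩ : ∃ k', k = k' + 1 := ⟨k - 1, by omega⟩
  have hz1 : z = 1 := by
    refine eq_one_of_slice (i.succAbove j) hm (by omega) hG hA (v := v) (hz ▸ G.mul_mem (G.mul_mem (G.mul_mem
      (mem_centCoord.1 hg₁).1 (mem_centCoord.1 hg₂).1) (G.inv_mem (mem_centCoord.1 hg₁).1))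
      (G.inv_mem (mem_centCoord.1 hg₂).1)) fun x hx => ?_
    obtain ⟨y, rfl⟩ := g₂.surjective x
    obtain ⟨f, rfl⟩ := g₁.surjective y
    have hx' : (w₂ (w₁ fun l => f (i.succAbove l))) j ≠ v := by
      have := congrFun (hr₂ (g₁ f)) j
      rw [hr₁ f] at this
      exact fun e' => hx (this.trans e')
    have hne1 : w₂ p ≠ p := hm₂
    refine (show z (g₂ (g₁ f)) = g₁ (g₂ f) by rw [hz]; simp).trans (hcomm f ?_ ?_ ?_)
    · intro e'
      rw [e'] at hx'
      -- `w₁ p` is fixed by `w₂`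
      have : w₂ (w₁ p) = w₁ p := by
        by_contra h3
        exact hm₁ (hmeet _ (fun e'' => hm₁ (w₁.injective e'')) h3)
      exact hx' (by rw [this]; exact hp₁)
    · intro e'
      rw [e'] at hx'
      exact hx' hp₂
    · intro e'
      -- `w₁` fixes the preimage of `p`
      have h4 : w₁ (fun l => f (i.succAbove l)) = fun l => f (i.succAbove l) := by
        by_contra h3
        have := hmeet _ h3 fun e'' => hm₂ (by rw [e''] at e'; rw [e'] at e''; exact e'')
        rw [this] at e'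
        exact hne1 e'
      rw [h4, e'] at hx'
      exact hx' hp
  have hcp : ∀ f, g₁ (g₂ f) = g₂ (g₁ f) := fun f => by
    have := congrArg (fun u : Perm (Fin (k' + 1 + 1) → Fin m) => u (g₂ (g₁ f))) (hz.symm.trans hz1)
    simpa using this
  obtain ⟨f, hf⟩ : ∃ f : Fin (k' + 1 + 1) → Fin m, (fun l => f (i.succAbove l)) = p :=
    ⟨split i (⟨0, by omega⟩, p), funext fun l => split_apply_succAbove i _ p l⟩
  have h := congrArg (fun u : Fin (k' + 1 + 1) → Fin m => fun l => u (i.succAbove l)) (hcp f)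
  rw [hr₁ (g₂ f), hr₂ f, hr₂ (g₁ f), hr₁ f, hf] at h
  have h5 : w₁ (w₂ p) = w₂ p := by
    by_contra h3
    exact hm₂ (hmeet _ h3 fun e'' => hm₂ (w₂.injective e''))
  have h6 : w₂ (w₁ p) = w₁ p := by
    by_contra h3
    exact hm₁ (hmeet _ (fun e'' => hm₁ (w₁.injective e'')) h3)
  rw [h5, h6] at h
  exact hm₁ (hmeet _ (fun e'' => hm₁ (w₁.injective e'')) (by rw [← h]; exact fun e'' => hm₂ (w₂.injective e'')))

/-- the centraliser of a coordinate cycle lies in the wreath product -/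
theorem cent_inW (hm : 5 ≤ m) (hk : 1 ≤ k) (IH : Dich m k) (hG : Big G)
    (hA : ¬ alternatingGroup (Fin (k + 1) → Fin m) ≤ G) {q e : ℕ} (hq : q.Prime)
    (hbig : m < 2 * q ^ e) (hsmall : q ^ e + 2 ≤ m)
    (hnum : ∀ b j : ℕ, 1 ≤ b → b ≤ m - q ^ e → ¬ m ∣ q ^ j * b)
    (hc : c.IsCycle) (hcard : c.support.card = q ^ e) :
    ∀ g ∈ G, Commute g (coord i c) → InW g := by
  intro g hg hgc
  obtain ⟨a, b, hab, ha, hb⟩ : ∃ a b, a ≠ b ∧ c a = a ∧ c b = b := by
    have : 1 < c.supportᶜ.card := by rw [Finset.card_compl, Fintype.card_fin, hcard]; omega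
    obtain ⟨a, ha, b, hb, hab⟩ := Finset.one_lt_card.1 this
    simp only [Finset.mem_compl, Equiv.Perm.mem_support, not_not] at ha hb
    exact ⟨a, b, hab, ha, hb⟩
  have hgC : g ∈ centCoord G i c := mem_centCoord.2 ⟨hg, hgc⟩
  obtain ⟨w, hw⟩ := exists_isImg i c hc hgc
  have hW : InW w := by
    rcases Nat.lt_or_ge k 2 with hk2 | hk2
    · obtain rfl : k = 1 := by omega
      refine ⟨1, fun _ => ((Equiv.funUnique (Fin 1) (Fin m)).symm.trans w).trans (Equiv.funUnique (Fin 1) (Fin m)),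
        fun f j => ?_⟩
      rw [Subsingleton.elim j default]
      show w f default = w ((Equiv.funUnique (Fin 1) (Fin m)).symm (f default)) default
      rw [show (Equiv.funUnique (Fin 1) (Fin m)).symm (f default) = f from
        (Equiv.funUnique (Fin 1) (Fin m)).symm_apply_apply f]
    have hB : Big (imgGroup i c hc G) := by
      refine ⟨fun z hz _ => ?_, fun π => ?_⟩
      · obtain ⟨d, hd, hdz⟩ := exists_lift i c hG hab ha hb hz
        exact ⟨_, hd, hdz⟩
      · obtain ⟨d, hd, hdz⟩ := exists_lift i c hG hab ha hb (inW_shuffle (m := m) π)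
        exact ⟨_, ⟨_, hd, hdz⟩, 1, fun _ _ => rfl⟩
    rcases IH (imgGroup i c hc G) hB with h | h
    · exact h w ⟨g, hgC, hw⟩
    · exact absurd h (not_alt_le_imgGroup i c hm hk2 IH hG hA hq hnum hbig hc hcard)
  obtain ⟨d, hd, hdw⟩ := exists_lift i c hG hab ha hb hW
  have hker : IsImg i c (g * (put i d w)⁻¹) 1 := by
    have := hw.mul i c (hdw.inv i c hc (mem_centCoord.1 hd).2)
    rwa [mul_inv_cancel] at this
  have hmem := mem_centCoord.1 (mul_mem hgC (inv_mem hd))
  obtain ⟨d', hd'⟩ := eq_coord_of_img_one i c hm hk IH hG hA hq hnum hbig hc hcard hmem.1 hmem.2 hker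
  rw [show g = coord i d' * put i d w by rw [← hd', inv_mul_cancel_right]]
  exact (wreath _ _).mul_mem (inW_coord i d') (inW_put i d hW)

end CfsgLib.Perm.Product
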