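import Cfsg.Agent.Lib.Perm.Product.Slice

/-!
An element supported in the fibres over fewer than half of the values of one coordinate is a coordinate
permutation.
-/

set_option autoImplicit false
set_option linter.unusedSectionVars false
set_option linter.style.haveILetI false

namespace CfsgLib.Perm.Product

open Equiv Equiv.Perm Function MulAction
open scoped Pointwise

variable {k m : ℕ} {G : Subgroup (Perm (Fin (k + 1) → Fin m))} (i : Fin (k + 1))

/-- the elements of `G` keeping the fibres over `E` -/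
def setStabE (G : Subgroup (Perm (Fin (k + 1) → Fin m))) (E : Finset (Fin m)) :
    Subgroup (Perm (Fin (k + 1) → Fin m)) where
  carrier := {g | g ∈ G ∧ ∀ f, g f i ∈ E ↔ f i ∈ E}
  one_mem' := ⟨G.one_mem, fun f => Iff.rfl⟩
  mul_mem' := fun {a b} ha hb => ⟨G.mul_mem ha.1 hb.1, fun f => by rw [Perm.mul_apply, ha.2, hb.2]⟩
  inv_mem' := fun {a} ha => ⟨G.inv_mem ha.1, fun f => by
    have := ha.2 (a⁻¹ f)
    rw [← Perm.mul_apply, mul_inv_cancel, Perm.one_apply] at this
    exact this.symm⟩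

theorem mem_setStabE {E : Finset (Fin m)} {g : Perm (Fin (k + 1) → Fin m)} :
    g ∈ setStabE i G E ↔ g ∈ G ∧ ∀ f, g f i ∈ E ↔ f i ∈ E := Iff.rfl

/-- an element `put c w` keeps the fibres over `E` when `c` keeps `E` -/
theorem put_mem_setStabE {E : Finset (Fin m)} {c : Perm (Fin m)} {w : Perm (Fin k → Fin m)}
    (hg : put i c w ∈ G) (hc : ∀ x, c x ∈ E ↔ x ∈ E) : put i c w ∈ setStabE i G E := by
  refine ⟨hg, fun f => ?_⟩
  rw [eq_split i f, put_split, split_apply_same, split_apply_same]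
  exact hc _

theorem setStabE_restr_big (hm : 5 ≤ m) (hG : Big G) {E : Finset (Fin m)} (hE : 2 * E.card < m)
    {b : Fin m} (hb : b ∈ E) : Big (restr i (setStabE i G E) b) := by
  refine ⟨fun w hw hs => ⟨put i 1 w, put_mem_setStabE i (hG.even _ (inW_put i 1 hw) (by
    rw [sign_put, map_one, hs, one_pow, one_pow, one_mul])) (fun x => Iff.rfl), fun p => put_split i 1 w b p⟩,
    fun π => ?_⟩
  obtain ⟨a, ha⟩ := exists_notMem_fin (s := E) (by omega)
  obtain ⟨a', ha'⟩ := exists_notMem_fin (s := insert a E) (lt_of_le_of_lt (Finset.card_insert_le _ _) (by omega))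
  simp only [Finset.mem_insert, not_or] at ha'
  refine ⟨(Equiv.arrowCongr π (Equiv.refl (Fin m)) : Perm (Fin k → Fin m)), ?_, 1, fun _ _ => rfl⟩
  have hba : b ≠ a := fun e => ha (e ▸ hb)
  have hba' : b ≠ a' := fun e => ha'.2 (e ▸ hb)
  rcases hG.lift i (Ne.symm ha'.1) (inW_shuffle π) with h | h
  · exact ⟨_, put_mem_setStabE i h (fun x => Iff.rfl), fun p => put_split i 1 _ b p⟩
  · refine ⟨_, put_mem_setStabE i h (fun x => ?_), fun p => by rw [put_split, swap_apply_of_ne_of_ne hba hba']⟩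
    rcases eq_or_ne x a with rfl | h1
    · rw [swap_apply_left]; simp [ha, ha'.2]
    rcases eq_or_ne x a' with rfl | h2
    · rw [swap_apply_right]; simp [ha, ha'.2]
    · rw [swap_apply_of_ne_of_ne h1 h2]

/-- an even element of the wreath product on the other coordinates fixing `p` and moving `q` -/
theorem exists_put_fix_move (hm : 5 ≤ m) (hG : Big G) {p q : Fin k → Fin m} (h : p ≠ q) :
    ∃ w : Perm (Fin k → Fin m), put i 1 w ∈ G ∧ w p = p ∧ w q ≠ q := by
  obtain ⟨w, -, hwW, hws, hwp, hwq⟩ :=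
    Big.exists_fix_move hm (G := (⊤ : Subgroup (Perm (Fin k → Fin m))))
      ⟨fun _ _ _ => trivial, fun π => ⟨(Equiv.arrowCongr π (Equiv.refl (Fin m)) : Perm (Fin k → Fin m)), trivial, 1,
        fun _ _ => rfl⟩⟩ h
  exact ⟨w, hG.even _ (inW_put i 1 hwW) (by rw [sign_put, map_one, hws, one_pow, one_pow, one_mul]), hwp, hwq⟩

/-- coordinate permutations move the rest anywhere -/
theorem exists_put_map (hm : 5 ≤ m) (hG : Big G) (p q : Fin k → Fin m) :
    ∃ w : Perm (Fin k → Fin m), put i 1 w ∈ G ∧ w p = q := by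
  choose u hu hup using fun j => exists_even_map' hm (p j) (q j)
  have hs : ∀ s : Finset (Fin k), ∀ v : Fin k → Perm (Fin m), (∀ j, sign (v j) = 1) → v = s.piecewise v 1 →
      put i 1 (base v) ∈ G := by
    intro s
    induction s using Finset.induction_on with
    | empty =>
      intro v _ he
      rw [he, Finset.piecewise_empty, base_one, put_one]
      exact G.one_mem
    | insert j t hj ih =>
      intro v hv he
      have e : v = Pi.mulSingle j (v j) * t.piecewise v 1 := by
        conv_lhs => rw [he]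
        funext l
        rcases eq_or_ne l j with rfl | hl
        · simp [hj]
        · by_cases hlt : l ∈ t <;> simp [hl, hlt]
      rw [e, base_mul, show put i (1 : Perm (Fin m)) (base (Pi.mulSingle j (v j)) * base (t.piecewise v 1)) =
        put i 1 (coord j (v j)) * put i 1 (base (t.piecewise v 1)) by rw [← put_mul, one_mul]; rfl, put_coord_other]
      refine G.mul_mem (hG.coord_mem _ _ (hv j)) (ih _ (fun l => ?_) ?_)
      · by_cases hlt : l ∈ t <;> simp [hlt, hv]
      · funext l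
        by_cases hlt : l ∈ t <;> simp [hlt]
  exact ⟨base u, hs Finset.univ u hu (by rw [Finset.piecewise_univ]), funext fun j => by rw [base_apply, hup]⟩

/-- an element supported in few fibres keeps every fibre, or there is a small Jordan set;
    in the first case it is a coordinate permutation -/
theorem eq_coord_of_supported (hm : 5 ≤ m) (hk : 1 ≤ k) (IH : Dich m k) (hG : Big G)
    (hA : ¬ alternatingGroup (Fin (k + 1) → Fin m) ≤ G) {E : Finset (Fin m)} (hE : 2 * E.card < m)
    {g : Perm (Fin (k + 1) → Fin m)} (hg : g ∈ G) (hfix : ∀ f, f i ∉ E → g f = f) :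
    ∃ c : Perm (Fin m), g = coord i c := by
  obtain ⟨S, hS⟩ : ∃ S, S = {f : Fin (k + 1) → Fin m | f i ∈ E} := ⟨_, rfl⟩
  have hmS : ∀ f, f ∈ S ↔ f i ∈ E := fun f => by rw [hS]; rfl
  obtain ⟨Y, hY⟩ : ∃ Y, Y = supported G S := ⟨_, rfl⟩
  have hmemY : ∀ y, y ∈ Y ↔ y ∈ G ∧ ∀ f, f i ∉ E → y f = f := fun y => by
    rw [hY, mem_supported]; simp [hmS]
  have hYE : ∀ y ∈ Y, ∀ f, f i ∈ E → y f i ∈ E := by
    intro y hy f hf
    by_contra hne
    have := y.injective (((hmemY y).1 hy).2 (y f) hne)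
    rw [this] at hne
    exact hne hf
  have hnorm : ∀ x ∈ setStabE i G E, ∀ y ∈ Y, x * y * x⁻¹ ∈ Y := fun x hx y hy =>
    hY ▸ supported_conj hx.1 (fun f hf => (hmS _).2 ((hx.2 f).2 ((hmS f).1 hf))) (hY ▸ hy)
  -- the orbit relation
  obtain ⟨R, hR⟩ : ∃ R : (Fin (k + 1) → Fin m) → (Fin (k + 1) → Fin m) → Prop,
      ∀ x z, R x z ↔ ∃ y ∈ Y, y x = z := ⟨_, fun x z => Iff.rfl⟩
  have hRr : ∀ x, R x x := fun x => (hR _ _).2 ⟨1, Y.one_mem, rfl⟩
  have hRs : ∀ x z, R x z → R z x := fun x z h => by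
    obtain ⟨y, hy, rfl⟩ := (hR _ _).1 h
    exact (hR _ _).2 ⟨y⁻¹, Y.inv_mem hy, by simp⟩
  have hRt : ∀ x z u, R x z → R z u → R x u := fun x z u h h' => by
    obtain ⟨y, hy, rfl⟩ := (hR _ _).1 h
    obtain ⟨y', hy', rfl⟩ := (hR _ _).1 h'
    exact (hR _ _).2 ⟨y' * y, Y.mul_mem hy' hy, rfl⟩
  have hRc : ∀ n ∈ setStabE i G E, ∀ x z, R x z → R (n x) (n z) := fun n hn x z h => by
    obtain ⟨y, hy, rfl⟩ := (hR _ _).1 h
    exact (hR _ _).2 ⟨_, hnorm n hn y hy, by simp⟩
  -- if every element moves one coordinate only we are done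
  by_contra hno
  obtain ⟨y, hy, f, j, hj, hyf⟩ : ∃ y ∈ Y, ∃ f j, j ≠ i ∧ y f j ≠ f j := by
    by_contra hc
    push Not at hc
    exact hno (eq_coord_of_line i hm hG hA hg fun f j hj => hc g ((hmemY g).2 ⟨hg, hfix⟩) f j hj)
  have hfE : f i ∈ E := by
    by_contra h
    exact hyf (by rw [((hmemY y).1 hy).2 f h])
  -- two related points in one fibre
  obtain ⟨b, p, q, hb, hpq, hbpq⟩ : ∃ b p q, b ∈ E ∧ p ≠ q ∧ R (split i (b, p)) (split i (b, q)) := by
    obtain ⟨p, hp⟩ : ∃ p, p = fun l => f (i.succAbove l) := ⟨_, rfl⟩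
    obtain ⟨p', hp'⟩ : ∃ p', p' = fun l => y f (i.succAbove l) := ⟨_, rfl⟩
    have hne : p ≠ p' := fun e => by
      obtain ⟨l, rfl⟩ := Fin.exists_succAbove_eq hj
      rw [hp, hp'] at e
      exact hyf (congrFun e l).symm
    obtain ⟨w, hwG, hwp, hwp'⟩ := exists_put_fix_move i hm hG hne
    have h1 : R (split i (f i, p)) (split i (y f i, p')) := (hR _ _).2 ⟨y, hy, by
      rw [hp, hp', ← eq_split, ← eq_split]⟩
    have h2 := hRc _ (put_mem_setStabE i hwG fun x => Iff.rfl) _ _ h1
    rw [put_split, put_split, hwp, Perm.one_apply, Perm.one_apply] at h2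
    exact ⟨y f i, p', w p', hYE y hy f hfE, Ne.symm hwp', hRt _ _ _ (hRs _ _ h1) h2⟩
  -- primitivity gives the whole fibre
  have hfull : ∀ u, R (split i (b, p)) (split i (b, u)) := by
    haveI := (setStabE_restr_big i hm hG hE hb).preprimitive hm
    obtain ⟨B, hB⟩ : ∃ B : Set (Fin k → Fin m), B = {u | R (split i (b, p)) (split i (b, u))} := ⟨_, rfl⟩
    have hmB : ∀ u, u ∈ B ↔ R (split i (b, p)) (split i (b, u)) := fun u => by rw [hB]; rfl
    have hblock : IsBlock (restr i (setStabE i G E) b) B := by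
      rw [isBlock_iff_smul_eq_of_nonempty]
      rintro ⟨w, n, hn, hnw⟩ ⟨u, ⟨u₀, hu₀, rfl⟩, hu⟩
      rw [hmB] at hu hu₀
      have hu₀' : R (split i (b, p)) (split i (b, u₀)) := hu₀
      have hu' : R (split i (b, p)) (split i (b, w u₀)) := hu
      have hmap : ∀ v, R (split i (b, p)) (split i (b, v)) ↔ R (split i (b, p)) (split i (b, w v)) := by
        intro v
        constructor
        · intro h
          have := hRc n hn _ _ (hRt _ _ _ (hRs _ _ hu₀') h)
          rw [hnw, hnw] at this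
          exact hRt _ _ _ hu' this
        · intro h
          have := hRc n⁻¹ ((setStabE i G E).inv_mem hn) _ _ (hRt _ _ _ (hRs _ _ hu') h)
          rw [← hnw, ← hnw] at this
          simp only [← Perm.mul_apply, inv_mul_cancel, Perm.one_apply] at this
          exact hRt _ _ _ hu₀' this
      ext v
      constructor
      · rintro ⟨v₀, hv₀, rfl⟩
        exact (hmB _).2 ((hmap v₀).1 ((hmB _).1 hv₀))
      · intro hv
        refine ⟨w⁻¹ v, (hmB _).2 ((hmap _).2 ?_), ?_⟩
        · rw [← Perm.mul_apply, mul_inv_cancel, Perm.one_apply]; exact (hmB _).1 hv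
        · show w (w⁻¹ v) = v
          rw [← Perm.mul_apply, mul_inv_cancel, Perm.one_apply]
    rcases hblock.subsingleton_or_eq_univ with h | h
    · exact absurd (h ((hmB p).2 (hRr _)) ((hmB q).2 hbpq)) hpq
    · exact fun u => (hmB u).1 (h ▸ Set.mem_univ u)
  have hfib : ∀ u v, R (split i (b, u)) (split i (b, v)) := fun u v => hRt _ _ _ (hRs _ _ (hfull u)) (hfull v)
  -- exchanging two fibres
  obtain ⟨j₀, -⟩ : ∃ j₀ : Fin k, True := ⟨⟨0, hk⟩, trivial⟩
  have hexch : ∀ d ∈ E, ∀ d' ∈ E, d ≠ d' → ∃ n ∈ setStabE i G E, ∀ z, n z i = swap d d' (z i) := by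
    intro d hd d' hd' hdd
    refine ⟨_, ⟨hG.coord_coord_mem i (i.succAbove j₀) (swap d d') (swap d d') rfl, fun z => ?_⟩, fun z => ?_⟩
    · rw [Perm.mul_apply, coord_self, coord_ne (Fin.succAbove_ne i j₀).symm]
      rcases eq_or_ne (z i) d with e | h1
      · rw [e, swap_apply_left]; simp [hd, hd']
      rcases eq_or_ne (z i) d' with e | h2
      · rw [e, swap_apply_right]; simp [hd, hd']
      · rw [swap_apply_of_ne_of_ne h1 h2]
    · rw [Perm.mul_apply, coord_self, coord_ne (Fin.succAbove_ne i j₀).symm]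
  -- the orbit is one fibre
  have hone : ∀ x, R (split i (b, p)) x → x i = b := by
    intro x hx
    by_contra hxb
    have hxE : x i ∈ E := by
      obtain ⟨y', hy', rfl⟩ := (hR _ _).1 hx
      exact hYE y' hy' _ (by rw [split_apply_same]; exact hb)
    have hallx : ∀ u, R (split i (b, p)) (split i (x i, u)) := by
      intro u
      obtain ⟨w, hw, hwu⟩ := exists_put_map i hm hG (fun l => x (i.succAbove l)) u
      have := hRc _ (put_mem_setStabE i hw fun z => Iff.rfl) _ _ hx
      rw [put_split, eq_split i x, put_split, hwu, Perm.one_apply, Perm.one_apply] at this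
      exact hRt _ _ _ (hfull (w p)) this
    have hallE : ∀ d ∈ E, ∀ u, R (split i (b, p)) (split i (d, u)) := by
      intro d hd u
      rcases eq_or_ne d b with rfl | hdb
      · exact hfull u
      rcases eq_or_ne d (x i) with rfl | hdx
      · exact hallx u
      -- exchange `x i` and `d`
      obtain ⟨n, hn, hni⟩ := hexch d hd (x i) hxE hdx
      have := hRc n hn _ _ (hallx u)
      rw [eq_split i (n (split i (b, p))), eq_split i (n (split i (x i, u))), hni, hni, split_apply_same,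
        split_apply_same, swap_apply_right, swap_apply_of_ne_of_ne (Ne.symm hdb) (Ne.symm hxb)] at this
      have h1 := hRt _ _ _ (hfull _) this
      obtain ⟨w, hw, hwu⟩ := exists_put_map i hm hG
        (fun l => n (split i (x i, u)) (i.succAbove l)) u
      have h2 := hRc _ (put_mem_setStabE i hw fun z => Iff.rfl) _ _ h1
      rw [put_split, put_split, hwu, Perm.one_apply, Perm.one_apply] at h2
      exact hRt _ _ _ (hfull _) h2
    refine no_jordan hm hG hA S ?_ ?_ ?_
    · rw [Set.one_lt_ncard_iff (Set.toFinite _)]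
      exact ⟨split i (b, p), split i (b, q), (hmS _).2 (by rw [split_apply_same]; exact hb),
        (hmS _).2 (by rw [split_apply_same]; exact hb), by simpa using hpq⟩
    · have hS' : S = Set.range fun z : {a // a ∈ E} × (Fin k → Fin m) => split i (z.1.1, z.2) := by
        ext z
        rw [hmS]
        constructor
        · exact fun h => ⟨(⟨z i, h⟩, fun l => z (i.succAbove l)), (eq_split i z).symm⟩
        · rintro ⟨⟨⟨a, ha⟩, u⟩, rfl⟩
          simp only [split_apply_same]; exact ha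
      rw [hS', Set.ncard_range_of_injective fun u v h => Prod.ext (Subtype.ext (Prod.mk.inj ((split i).injective h)).1)
        (Prod.mk.inj ((split i).injective h)).2,
        Nat.card_prod, Nat.card_eq_fintype_card, Fintype.card_coe, Nat.card_eq_fintype_card,
        Fintype.card_fun, Fintype.card_fin, Fintype.card_fin, Fintype.card_fun, Fintype.card_fin,
        Fintype.card_fin, pow_succ]
      have : 0 < m ^ k := Nat.pow_pos (by omega)
      nlinarith
    · intro u hu v hv
      rw [hmS] at hu hv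
      have h := hRt _ _ _ (hRs _ _ (hallE _ hu (fun l => u (i.succAbove l))))
        (hallE _ hv (fun l => v (i.succAbove l)))
      rw [← eq_split, ← eq_split, hR] at h
      obtain ⟨z, hz, hzuv⟩ := h
      exact ⟨z, ((hmemY z).1 hz).1, fun w hw => ((hmemY z).1 hz).2 w fun e => hw ((hmS w).2 e), hzuv⟩
  -- every fibre is kept
  have hkeep : ∀ z ∈ Y, ∀ x, z x i = x i := by
    intro z hz x
    by_cases hxE : x i ∈ E
    swap
    · rw [((hmemY z).1 hz).2 x hxE]
    have hzx : R x (z x) := (hR _ _).2 ⟨z, hz, rfl⟩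
    rcases eq_or_ne (x i) b with hxb | hxb
    · rw [hxb]
      refine hone _ (hRt _ _ _ ?_ hzx)
      rw [eq_split i x, hxb]
      exact hfull _
    -- pull back to the fibre over `b`
    obtain ⟨n, hn, hni⟩ := hexch (x i) hxE b hb hxb
    have h := hRc n hn _ _ hzx
    have h' : R (split i (b, p)) (n x) := by
      rw [eq_split i (n x), hni, swap_apply_left]
      exact hfull _
    have := hone _ (hRt _ _ _ h' h)
    rw [hni] at this
    have h2 := congrArg (swap (x i) b) this
    rwa [swap_apply_self, swap_apply_right] at h2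
  -- induced groups on the fibre over `b`
  have hco : ∀ (E' : Finset (Fin m)), 2 * E'.card < m → b ∈ E' →
      (∃ z ∈ restr i (supported G {f | f i ∈ E'}) b, z ≠ 1) →
      ∀ j' (u : Perm (Fin m)), sign u = 1 → coord j' u ∈ restr i (supported G {f | f i ∈ E'}) b := by
    intro E' hE' hb' ⟨z, hz, hz1⟩ j' u hu
    have hle : supported G {f | f i ∈ E'} ≤ setStabE i G E' := by
      intro z hz
      rw [mem_supported] at hz
      refine ⟨hz.1, fun x => ⟨fun h => ?_, fun h => ?_⟩⟩
      · by_contra hne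
        rw [hz.2 x hne] at h
        exact hne h
      · by_contra hne
        rw [z.injective (hz.2 (z x) hne)] at hne
        exact hne h
    refine (setStabE_restr_big i hm hG hE' hb').coord_mem_of_normalised hm
      (IH _ (setStabE_restr_big i hm hG hE' hb')) (fun w hw => ?_) ?_ hz hz1 j' hu
    · obtain ⟨x, hx, hxw⟩ := (mem_restr i).1 hw
      exact (mem_restr i).2 ⟨x, hle hx, hxw⟩
    rintro w ⟨x, hx, hxw⟩ z' ⟨y', hy', hyz⟩
    refine ⟨x * y' * x⁻¹, supported_conj hx.1 (fun f hf => (hx.2 f).2 hf) hy', fun u' => ?_⟩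
    have hxi : x⁻¹ (split i (b, u')) = split i (b, w⁻¹ u') := by
      rw [Perm.inv_eq_iff_eq, hxw, ← Perm.mul_apply, mul_inv_cancel, Perm.one_apply]
    rw [Perm.mul_apply, Perm.mul_apply, hxi, hyz, hxw]; rfl
  have hwit : ∃ z ∈ restr i (supported G {f | f i ∈ E}) b, z ≠ 1 := by
    obtain ⟨z, hz, hzpq⟩ := (hR _ _).1 hbpq
    obtain ⟨F, hF⟩ : ∃ F : (Fin k → Fin m) → Fin k → Fin m, ∀ u, z (split i (b, u)) = split i (b, F u) := by
      refine ⟨fun u l => z (split i (b, u)) (i.succAbove l), fun u => ?_⟩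
      conv_lhs => rw [eq_split i (z (split i (b, u))), hkeep z hz, split_apply_same]
    have hFi : Injective F := fun u v h => by
      have := z.injective ((hF u).trans (h ▸ (hF v).symm))
      simpa using this
    have hzY : z ∈ supported G {f | f i ∈ E} := mem_supported.2 ((hmemY z).1 hz)
    refine ⟨Equiv.ofBijective F (Finite.injective_iff_bijective.1 hFi), ⟨z, hzY, fun u => hF u⟩, fun e => ?_⟩
    have h2 : F p = p := congrArg (fun w : Perm (Fin k → Fin m) => w p) e
    rw [hF, h2] at hzpq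
    exact hpq (by simpa using hzpq)
  -- a set meeting `E` in `b` only
  obtain ⟨U, hU, hUc⟩ : ∃ U : Finset (Fin m), U ⊆ Eᶜ ∧ U.card = E.card - 1 :=
    Finset.exists_subset_card_eq (by rw [Finset.card_compl, Fintype.card_fin]; omega)
  obtain ⟨E', hE'⟩ : ∃ E', E' = insert b U := ⟨_, rfl⟩
  have hbU : b ∉ U := fun h => (Finset.mem_compl.1 (hU h)) hb
  have hc' : E'.card = E.card := by
    rw [hE', Finset.card_insert_of_notMem hbU, hUc]
    have : 0 < E.card := Finset.card_pos.2 ⟨b, hb⟩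
    omega
  have hbE' : b ∈ E' := hE' ▸ Finset.mem_insert_self b U
  have hint : ∀ x, x ∈ E → x ∈ E' → x = b := fun x h1 h2 => by
    rw [hE', Finset.mem_insert] at h2
    exact h2.resolve_right fun h => (Finset.mem_compl.1 (hU h)) h1
  obtain ⟨σ, hσ⟩ : ∃ σ : Perm (Fin m), ∀ x, x ∈ E ↔ σ x ∈ E' := by
    obtain ⟨e⟩ : Nonempty ({x // x ∈ E} ≃ {x // x ∈ E'}) := ⟨Finset.equivOfCardEq hc'.symm⟩
    refine ⟨e.extendSubtype, fun x => ⟨fun h => e.extendSubtype_mem x h, fun h => ?_⟩⟩
    by_contra hx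
    exact e.extendSubtype_not_mem x hx h
  -- `T` maps the fibres over `E` onto those over `E'`
  obtain ⟨d, hd⟩ : ∃ d : Perm (Fin m), sign d = sign σ := ⟨σ, rfl⟩
  obtain ⟨T, hT⟩ : ∃ T, T = coord i σ * coord (i.succAbove j₀) d := ⟨_, rfl⟩
  have hTG : T ∈ G := hT ▸ hG.coord_coord_mem i _ σ d hd.symm
  have hTi : ∀ x, T x i = σ (x i) := fun x => by
    rw [hT, Perm.mul_apply, coord_self, coord_ne (Fin.succAbove_ne i j₀).symm]
  have hkeep' : ∀ z ∈ supported G {f | f i ∈ E'}, ∀ x, z x i = x i := by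
    intro z hz x
    rw [mem_supported] at hz
    have hz' : T⁻¹ * z * T ∈ Y := by
      refine (hmemY _).2 ⟨G.mul_mem (G.mul_mem (G.inv_mem hTG) hz.1) hTG, fun u hu => ?_⟩
      rw [Perm.mul_apply, Perm.mul_apply, hz.2 (T u) (fun h => hu ((hσ _).2 (by rwa [Set.mem_ofPred_eq, hTi] at h))),
        ← Perm.mul_apply, inv_mul_cancel, Perm.one_apply]
    obtain ⟨u, rfl⟩ := T.surjective x
    have := hkeep _ hz' u
    rw [Perm.mul_apply, Perm.mul_apply] at this
    have h2 := hTi (T⁻¹ (z (T u)))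
    rw [← Perm.mul_apply, mul_inv_cancel, Perm.one_apply, this] at h2
    rw [h2, hTi]
  have hwit' : ∃ z ∈ restr i (supported G {f | f i ∈ E'}) b, z ≠ 1 := by
    -- some fibre over `E` goes to the one over `b`
    obtain ⟨a, ha⟩ := σ.surjective b
    have haE : a ∈ E := (hσ a).2 (ha ▸ hbE')
    obtain ⟨u, v, huv, hauv⟩ : ∃ u v, u ≠ v ∧ R (split i (a, u)) (split i (a, v)) := by
      rcases eq_or_ne a b with rfl | hab
      · exact ⟨p, q, hpq, hbpq⟩
      obtain ⟨n, hn, hni⟩ := hexch a haE b hb hab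
      have h := hRc n hn _ _ hbpq
      rw [eq_split i (n (split i (b, p))), eq_split i (n (split i (b, q))), hni, hni, split_apply_same,
        split_apply_same, swap_apply_right] at h
      refine ⟨_, _, fun e => hpq ?_, h⟩
      have : n (split i (b, p)) = n (split i (b, q)) := by
        rw [eq_split i (n (split i (b, p))), eq_split i (n (split i (b, q))), hni, hni, split_apply_same,
          split_apply_same, e]
      simpa using n.injective this
    obtain ⟨z, hz, hzuv⟩ := (hR _ _).1 hauv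
    have hz' : T * z * T⁻¹ ∈ supported G {f | f i ∈ E'} := by
      rw [mem_supported]
      refine ⟨G.mul_mem (G.mul_mem hTG ((hmemY z).1 hz).1) (G.inv_mem hTG), fun w hw => ?_⟩
      obtain ⟨w₀, rfl⟩ := T.surjective w
      rw [Perm.mul_apply, Perm.mul_apply, show T⁻¹ (T w₀) = w₀ by simp,
        ((hmemY z).1 hz).2 w₀ fun h => hw (by rw [Set.mem_ofPred_eq, hTi]; exact (hσ _).1 h)]
    obtain ⟨u', hu'⟩ : ∃ u', T (split i (a, u)) = split i (b, u') :=
      ⟨_, by rw [eq_split i (T (split i (a, u))), hTi, split_apply_same, ha]⟩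
    obtain ⟨v', hv'⟩ : ∃ v', T (split i (a, v)) = split i (b, v') :=
      ⟨_, by rw [eq_split i (T (split i (a, v))), hTi, split_apply_same, ha]⟩
    have huv' : u' ≠ v' := fun e => huv (by
      have := T.injective (hu'.trans (e ▸ hv'.symm)); simpa using this)
    obtain ⟨F, hF⟩ : ∃ F : (Fin k → Fin m) → Fin k → Fin m,
        ∀ w, (T * z * T⁻¹) (split i (b, w)) = split i (b, F w) := by
      refine ⟨fun w l => (T * z * T⁻¹) (split i (b, w)) (i.succAbove l), fun w => ?_⟩
      conv_lhs => rw [eq_split i ((T * z * T⁻¹) (split i (b, w))), hkeep' _ hz', split_apply_same]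
    have hFi : Injective F := fun w w' h => by
      have := (T * z * T⁻¹).injective ((hF w).trans (h ▸ (hF w').symm))
      simpa using this
    refine ⟨Equiv.ofBijective F (Finite.injective_iff_bijective.1 hFi), ⟨_, hz', fun w => hF w⟩, fun e => ?_⟩
    have h2 : F u' = u' := congrArg (fun w : Perm (Fin k → Fin m) => w u') e
    have h3 := hF u'
    rw [h2, ← hu', Perm.mul_apply, Perm.mul_apply, show T⁻¹ (T (split i (a, u))) = split i (a, u) by simp,
      hzuv, hv', hu'] at h3
    exact huv' (by simpa using h3.symm)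
  -- two noncommuting coordinate permutations
  obtain ⟨c₁, c₂, hc₁, hc₂, hc12⟩ : ∃ c₁ c₂ : Perm (Fin m), sign c₁ = 1 ∧ sign c₂ = 1 ∧ c₁ * c₂ ≠ c₂ * c₁ := by
    obtain ⟨e₁, he₁⟩ := exists_notMem_fin (s := {b}) (by simp; omega)
    simp only [Finset.mem_singleton] at he₁
    obtain ⟨c₁, hc₁, hcb⟩ := exists_even_map' hm b e₁
    have hne : c₁ ≠ 1 := fun h => he₁ (by rw [h] at hcb; exact hcb.symm)
    obtain ⟨c₂, hc₂, h⟩ := exists_noncomm_even (by simpa using hm) hne
    exact ⟨c₁, c₂, hc₁, hc₂, h⟩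
  obtain ⟨z₁, hz₁, hz₁r⟩ := hco E hE hb hwit j₀ c₁ hc₁
  obtain ⟨z₂, hz₂, hz₂r⟩ := hco E' (by rw [hc']; exact hE) hbE' hwit' j₀ c₂ hc₂
  have hz₁G := mem_supported.1 hz₁
  have hz₂G := mem_supported.1 hz₂
  have hz₁Y : z₁ ∈ Y := (hmemY z₁).2 hz₁G
  have hout : ∀ x, x i ≠ b → z₁ (z₂ x) = z₂ (z₁ x) := by
    intro x hx
    by_cases hxE : x i ∈ E
    · have hxE' : x i ∉ E' := fun h => hx (hint _ hxE h)
      rw [hz₂G.2 x hxE', hz₂G.2 (z₁ x) (show ¬ z₁ x i ∈ E' by rw [hkeep z₁ hz₁Y]; exact hxE')]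
    · rw [hz₁G.2 x hxE, hz₁G.2 (z₂ x) (show ¬ z₂ x i ∈ E by rw [hkeep' z₂ hz₂]; exact hxE)]
  have hz : z₁ * z₂ * z₁⁻¹ * z₂⁻¹ = 1 := by
    refine eq_one_of_slice i hm hk hG hA (v := b) (G.mul_mem (G.mul_mem (G.mul_mem hz₁G.1 hz₂G.1)
      (G.inv_mem hz₁G.1)) (G.inv_mem hz₂G.1)) fun x hx => ?_
    obtain ⟨u, rfl⟩ := z₂.surjective x
    obtain ⟨w, rfl⟩ := z₁.surjective u
    have hw : w i ≠ b := by rwa [hkeep' z₂ hz₂, hkeep z₁ hz₁Y] at hx
    simp [hout w hw]
  refine hc12 (Equiv.ext fun x => ?_)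
  have h1 := congrArg (fun w : Perm (Fin (k + 1) → Fin m) => w (z₂ (z₁ (split i (b, update p j₀ x))))) hz
  simp at h1
  rw [hz₂r, hz₁r, hz₁r, hz₂r] at h1
  have h2 := congrFun (by simpa using h1 :
    coord j₀ c₁ (coord j₀ c₂ (update p j₀ x)) = coord j₀ c₂ (coord j₀ c₁ (update p j₀ x))) j₀
  simpa [coord_self] using h2

end CfsgLib.Perm.Product
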