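import Cfsg.Agent.Lib.Perm.Product.Lifts
import Cfsg.Agent.Lib.Perm.Product.Support

/-!
The centraliser of a coordinate cycle `x = coord i c`: its action on the cycles of `x`, and the kernel of
that action.
-/

set_option autoImplicit false
set_option linter.unusedSectionVars false
set_option linter.style.haveILetI false

namespace CfsgLib.Perm.Product

open Equiv Equiv.Perm Function MulAction
open scoped Pointwise

variable {k m : ℕ} {G : Subgroup (Perm (Fin (k + 1) → Fin m))} (i : Fin (k + 1)) (c : Perm (Fin m))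

/-- `w` is the permutation induced by `g` on the cycles of `coord i c` -/
def IsImg (g : Perm (Fin (k + 1) → Fin m)) (w : Perm (Fin k → Fin m)) : Prop :=
  ∀ s, c s ≠ s → ∀ p, ∃ s', c s' ≠ s' ∧ g (split i (s, p)) = split i (s', w p)

theorem IsImg.mul {g h : Perm (Fin (k + 1) → Fin m)} {w z : Perm (Fin k → Fin m)} (hg : IsImg i c g w)
    (hh : IsImg i c h z) : IsImg i c (g * h) (w * z) := by
  intro s hs p
  obtain ⟨s', hs', e'⟩ := hh s hs p
  obtain ⟨s'', hs'', e''⟩ := hg s' hs' (z p)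
  exact ⟨s'', hs'', by rw [Perm.mul_apply, e', e'', Perm.mul_apply]⟩

theorem commute_fix {g : Perm (Fin (k + 1) → Fin m)} (hg : Commute g (coord i c))
    (f : Fin (k + 1) → Fin m) : c (g f i) = g f i ↔ c (f i) = f i := by
  have hx : ∀ u, coord i c u = u ↔ c (u i) = u i := fun u => by
    refine ⟨fun h => by simpa [coord_self] using congrFun h i, fun h => ?_⟩
    rw [coord_apply, h, update_eq_self]
  rw [← hx, ← hx, show coord i c (g f) = g (coord i c f) from
    (congrArg (fun u : Perm (Fin (k + 1) → Fin m) => u f) hg.eq).symm]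
  exact g.injective.eq_iff

theorem isImg_unique (hc : c.IsCycle) {g : Perm (Fin (k + 1) → Fin m)} {w z : Perm (Fin k → Fin m)}
    (hw : IsImg i c g w) (hz : IsImg i c g z) : w = z := by
  obtain ⟨s, hs, -⟩ := hc
  refine Equiv.ext fun p => ?_
  obtain ⟨s₁, -, e₁⟩ := hw s hs p
  obtain ⟨s₂, -, e₂⟩ := hz s hs p
  exact (Prod.mk.inj ((split i).injective (e₁.symm.trans e₂))).2

theorem exists_isImg (hc : c.IsCycle) {g : Perm (Fin (k + 1) → Fin m)} (hg : Commute g (coord i c)) :
    ∃ w, IsImg i c g w := by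
  obtain ⟨s₀, hs₀, -⟩ := id hc
  obtain ⟨F, hF⟩ : ∃ F : (Fin k → Fin m) → Fin k → Fin m,
      ∀ p, g (split i (s₀, p)) = split i (g (split i (s₀, p)) i, F p) :=
    ⟨fun p j => g (split i (s₀, p)) (i.succAbove j), fun p => eq_split i _⟩
  have hmv : ∀ s, c s ≠ s → ∀ p, c (g (split i (s, p)) i) ≠ g (split i (s, p)) i := fun s hs p h => by
    have := (commute_fix i c hg (split i (s, p))).1 h
    rw [split_apply_same] at this
    exact hs this
  have hcp : ∀ (n : ℕ) f, g (coord i (c ^ n) f) = coord i (c ^ n) (g f) := fun n f => by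
    rw [← coord_pow]
    exact congrArg (fun u : Perm (Fin (k + 1) → Fin m) => u f) (hg.pow_right n).eq
  have hpow : ∀ s, c s ≠ s → ∀ p, ∃ s', c s' ≠ s' ∧ g (split i (s, p)) = split i (s', F p) := by
    intro s hs p
    obtain ⟨n, hn⟩ := hc.exists_pow_eq hs₀ hs
    refine ⟨(c ^ n) (g (split i (s₀, p)) i), fun h => hmv s₀ hs₀ p ?_, ?_⟩
    · have h2 : (c ^ n) (c (g (split i (s₀, p)) i)) = (c ^ n) (g (split i (s₀, p)) i) := by
        rw [← Perm.mul_apply, (Commute.pow_self c n).eq, Perm.mul_apply]; exact h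
      exact (c ^ n).injective h2
    · rw [← hn, ← coord_split, hcp]
      conv_lhs => rw [hF p, coord_split]
  have hFi : Injective F := by
    intro p p' h
    obtain ⟨n, hn⟩ := hc.exists_pow_eq (hmv s₀ hs₀ p) (hmv s₀ hs₀ p')
    have h2 : g (coord i (c ^ n) (split i (s₀, p))) = g (split i (s₀, p')) := by
      rw [hcp, hF p, coord_split, hn, h, ← hF p']
    exact (Prod.mk.inj ((split i).injective ((coord_split i _ _ _).symm.trans (g.injective h2)))).2
  exact ⟨Equiv.ofBijective F (Finite.injective_iff_bijective.1 hFi), hpow⟩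

theorem isImg_coord_mul {d : Perm (Fin m)} (hd : Commute d c) {w : Perm (Fin k → Fin m)} :
    IsImg i c (put i d w) w := fun s hs p => ⟨d s, fun h => hs (d.injective (by
  rw [← Perm.mul_apply, hd.eq, Perm.mul_apply]; exact h)), put_split i d w s p⟩

/-- the kernel of the action on the cycles is made of coordinate permutations -/
theorem eq_coord_of_img_one (hm : 5 ≤ m) (hk : 1 ≤ k) (IH : Dich m k) (hG : Big G)
    (hA : ¬ alternatingGroup (Fin (k + 1) → Fin m) ≤ G) {q e : ℕ} (hq : q.Prime)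
    (hnum : ∀ b j : ℕ, 1 ≤ b → b ≤ m - q ^ e → ¬ m ∣ q ^ j * b) (hbig : m < 2 * q ^ e)
    (hc : c.IsCycle) (hcard : c.support.card = q ^ e)
    {g : Perm (Fin (k + 1) → Fin m)} (hgG : g ∈ G) (hgc : Commute g (coord i c)) (hg1 : IsImg i c g 1) :
    ∃ d : Perm (Fin m), g = coord i d := by
  haveI : Fact q.Prime := ⟨hq⟩
  obtain ⟨A, hAdef⟩ : ∃ A : Subgroup (Perm (Fin (k + 1) → Fin m)),
      ∀ a, a ∈ A ↔ a ∈ centCoord G i c ∧ IsImg i c a 1 := by
    refine ⟨{ carrier := {a | a ∈ centCoord G i c ∧ IsImg i c a 1}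
              one_mem' := ⟨one_mem _, fun s hs p => ⟨s, hs, rfl⟩⟩
              mul_mem' := fun {a b} ha hb => ⟨mul_mem ha.1 hb.1, by simpa using ha.2.mul i c hb.2⟩
              inv_mem' := fun {a} ha => ⟨inv_mem ha.1, ?_⟩ }, fun _ => Iff.rfl⟩
    obtain ⟨w, hw⟩ := exists_isImg i c hc (mem_centCoord.1 (inv_mem ha.1)).2
    have h1 := ha.2.mul i c hw
    rw [mul_inv_cancel, one_mul] at h1
    have := isImg_unique i c hc h1 (fun s hs p => ⟨s, hs, rfl⟩ : IsImg i c 1 1)
    rwa [this] at hw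
  obtain ⟨s₀, hs₀, -⟩ := id hc
  -- on the moved values each element is a power of the cycle
  have hpw : ∀ a ∈ A, ∀ p, ∃ n : ℕ, ∀ s, c s ≠ s → a (split i (s, p)) = split i ((c ^ n) s, p) := by
    intro a ha p
    obtain ⟨s₁, hs₁, e₁⟩ := ((hAdef a).1 ha).2 s₀ hs₀ p
    obtain ⟨n, hn⟩ := hc.exists_pow_eq hs₀ hs₁
    refine ⟨n, fun s hs => ?_⟩
    obtain ⟨l, hl⟩ := hc.exists_pow_eq hs₀ hs
    rw [← hl, ← coord_split, ← coord_pow,
      show a ((coord i c ^ l) (split i (s₀, p))) = (coord i c ^ l) (a (split i (s₀, p))) from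
        congrArg (fun u : Perm (Fin (k + 1) → Fin m) => u (split i (s₀, p)))
          ((mem_centCoord.1 ((hAdef a).1 ha).1).2.pow_right l).eq, e₁, Perm.one_apply, coord_pow, coord_split,
      ← hn, ← Perm.mul_apply, ← Perm.mul_apply, (Commute.pow_pow_self c l n).eq]
  obtain ⟨E, hE⟩ : ∃ E : Finset (Fin m), E = c.supportᶜ := ⟨_, rfl⟩
  have hmE : ∀ x, x ∈ E ↔ c x = x := fun x => by rw [hE, Finset.mem_compl, Equiv.Perm.mem_support, not_not]
  have hEc : E.card = m - q ^ e := by rw [hE, Finset.card_compl, Fintype.card_fin, hcard]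
  -- it suffices that the other coordinates are kept
  refine eq_coord_of_line i hm hG hA hgG fun f j hj => ?_
  obtain ⟨l, rfl⟩ := Fin.exists_succAbove_eq hj
  by_cases hfi : c (f i) = f i
  swap
  · obtain ⟨s', -, e'⟩ := hg1 (f i) hfi (fun l => f (i.succAbove l))
    rw [← eq_split] at e'
    rw [e', split_apply_succAbove, Perm.one_apply]
  by_contra hmov
  -- the part trivial on the moved values
  obtain ⟨K, hK⟩ : ∃ K : Subgroup A, K = (supported G {u | u i ∈ E}).subgroupOf A := ⟨_, rfl⟩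
  haveI : K.Normal := ⟨fun a ha h => by
    rw [hK, Subgroup.mem_subgroupOf] at ha ⊢
    have hh := (hAdef _).1 h.2
    simpa using supported_conj (mem_centCoord.1 hh.1).1 (fun u hu => by
      rw [Set.mem_ofPred_eq, hmE] at hu ⊢
      exact (commute_fix i c (mem_centCoord.1 hh.1).2 u).2 hu) ha⟩
  have hKE : 2 * E.card < m := by rw [hEc]; omega
  have hquot : IsPGroup q (A ⧸ K) := by
    intro a
    induction a using QuotientGroup.induction_on with
    | H a =>
      refine ⟨e, ?_⟩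
      rw [← QuotientGroup.mk_pow, QuotientGroup.eq_one_iff, hK, Subgroup.mem_subgroupOf, SubgroupClass.coe_pow,
        mem_supported]
      refine ⟨G.pow_mem (mem_centCoord.1 ((hAdef _).1 a.2).1).1 _, fun u hu => ?_⟩
      rw [Set.mem_ofPred_eq, hmE] at hu
      obtain ⟨n, hn⟩ := hpw _ a.2 (fun l => u (i.succAbove l))
      have hit : ∀ t : ℕ, ((a : Perm (Fin (k + 1) → Fin m)) ^ t) u =
          split i ((c ^ (n * t)) (u i), fun l => u (i.succAbove l)) := by
        intro t
        induction t with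
        | zero => exact eq_split i u
        | succ t ih =>
          rw [pow_succ', Perm.mul_apply, ih, hn _ (fun h => hu ?_), ← Perm.mul_apply, ← pow_add,
            Nat.mul_succ, Nat.add_comm n]
          have h2 : (c ^ (n * t)) (c (u i)) = (c ^ (n * t)) (u i) := by
            rw [← Perm.mul_apply, (Commute.pow_self c _).eq, Perm.mul_apply]; exact h
          exact (c ^ (n * t)).injective h2
      rw [hit, mul_comm, pow_mul, ← hcard, ← hc.orderOf, pow_orderOf_eq_one, one_pow, Perm.one_apply,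
        ← eq_split]
  -- the orbit of `f`
  obtain ⟨O, hO⟩ : ∃ O, O = orbit A f := ⟨_, rfl⟩
  have hmO : ∀ u, u ∈ O ↔ ∃ a ∈ A, a f = u := fun u => by
    rw [hO, mem_orbit_iff]
    exact ⟨fun ⟨a, ha⟩ => ⟨a, a.2, ha⟩, fun ⟨a, ha, e'⟩ => ⟨⟨a, ha⟩, e'⟩⟩
  have hfO : f ∈ O := (hmO f).2 ⟨1, A.one_mem, rfl⟩
  have hnA : ∀ n ∈ centCoord G i c, ∀ w, IsImg i c n w → ∀ a ∈ A, n * a * n⁻¹ ∈ A := by
    intro n hn w hw a ha
    obtain ⟨ha1, ha2⟩ := (hAdef a).1 ha
    obtain ⟨w', hw'⟩ := exists_isImg i c hc (mem_centCoord.1 (inv_mem hn)).2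
    have h1 := hw.mul i c hw'
    rw [mul_inv_cancel] at h1
    have hu := isImg_unique i c hc h1 (fun s hs p => ⟨s, hs, rfl⟩ : IsImg i c 1 1)
    have h2 := (hw.mul i c ha2).mul i c hw'
    rw [mul_one, hu] at h2
    exact (hAdef _).2 ⟨mul_mem (mul_mem hn ha1) (inv_mem hn), h2⟩
  -- an element of the centraliser sending a point of the orbit into it preserves it
  have hstab : ∀ n ∈ centCoord G i c, ∀ u ∈ O, n u ∈ O → ∀ v ∈ O, n v ∈ O := by
    intro n hn u hu hnu v hv
    obtain ⟨a, ha, rfl⟩ := (hmO _).1 hu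
    obtain ⟨b, hb, rfl⟩ := (hmO _).1 hv
    obtain ⟨z, hz, hze⟩ := (hmO _).1 hnu
    obtain ⟨w, hw⟩ := exists_isImg i c hc (mem_centCoord.1 hn).2
    refine (hmO _).2 ⟨n * (b * a⁻¹) * n⁻¹ * z,
      mul_mem (hnA n hn w hw _ (mul_mem hb (inv_mem ha))) hz, ?_⟩
    rw [Perm.mul_apply, hze]; simp
  have hOE : ∀ u ∈ O, u i ∈ E := by
    intro u hu
    obtain ⟨a, ha, rfl⟩ := (hmO _).1 hu
    exact (hmE _).2 ((commute_fix i c (mem_centCoord.1 ((hAdef a).1 ha).1).2 f).2 hfi)
  -- two points of the orbit in one fibre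
  obtain ⟨p, hp⟩ : ∃ p, p = fun l => f (i.succAbove l) := ⟨_, rfl⟩
  obtain ⟨p', hp'⟩ : ∃ p', p' = fun l => g f (i.succAbove l) := ⟨_, rfl⟩
  have hpp : p ≠ p' := fun h => hmov (by
    rw [hp, hp'] at h; exact (congrFun h l).symm)
  have hgO : g f ∈ O := (hmO _).2 ⟨g, (hAdef g).2 ⟨mem_centCoord.2 ⟨hgG, hgc⟩, hg1⟩, rfl⟩
  obtain ⟨w, hwW, hws, hwp, hwp'⟩ := exists_inW_fix_move hm hpp
  have hwC : put i 1 w ∈ centCoord G i c := mem_centCoord.2 ⟨hG.even _ (inW_put i 1 hwW) (by
    rw [put_one_eq_one_or, hws, one_pow]), commute_put_coord i w (Commute.one_left c)⟩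
  obtain ⟨b, hb⟩ : ∃ b, b = g f i := ⟨_, rfl⟩
  have hgf : g f = split i (b, p') := by rw [hb, hp']; exact eq_split i (g f)
  have hfix : put i 1 w f = f := by
    conv_lhs => rw [eq_split i f, put_split, ← hp, hwp, Perm.one_apply, hp, ← eq_split]
  have hbw : split i (b, w p') ∈ O := by
    have := hstab _ hwC f hfO (by rw [hfix]; exact hfO) _ hgO
    rwa [hgf, put_split, Perm.one_apply] at this
  -- the whole fibre
  haveI := (centCoord_restr_big hm hG i c b).preprimitive hm
  obtain ⟨B, hB⟩ : ∃ B : Set (Fin k → Fin m), B = {u | split i (b, u) ∈ O} := ⟨_, rfl⟩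
  have hmB : ∀ u, u ∈ B ↔ split i (b, u) ∈ O := fun u => by rw [hB]; rfl
  have hblock : IsBlock (restr i (centCoord G i c) b) B := by
    rw [isBlock_iff_smul_eq_of_nonempty]
    rintro ⟨z, n, hn, hnz⟩ ⟨u, ⟨u₀, hu₀, rfl⟩, hu⟩
    rw [hmB] at hu₀
    have hu' : split i (b, z u₀) ∈ O := (hmB _).1 hu
    have hnu : n (split i (b, u₀)) ∈ O := by rw [hnz]; exact hu'
    have hninv : ∀ v, n⁻¹ (split i (b, z v)) = split i (b, v) := fun v => by rw [Perm.inv_eq_iff_eq, hnz]
    ext v
    constructor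
    · rintro ⟨v₀, hv₀, rfl⟩
      rw [hmB] at hv₀ ⊢
      have := hstab n hn _ hu₀ hnu _ hv₀
      rw [hnz] at this
      exact this
    · intro hv
      refine ⟨z⁻¹ v, (hmB _).2 ?_, show z (z⁻¹ v) = v by simp⟩
      have := hstab n⁻¹ (inv_mem hn) _ hu' (by rw [hninv]; exact hu₀) _ ((hmB _).1 hv)
      rwa [show v = z (z⁻¹ v) by simp, hninv] at this
  have hBall : ∀ u, split i (b, u) ∈ O := by
    rcases hblock.subsingleton_or_eq_univ with h | h
    · exact absurd (h ((hmB _).2 (hgf ▸ hgO)) ((hmB _).2 hbw)) (Ne.symm hwp')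
    · exact fun u => (hmB u).1 (h ▸ Set.mem_univ u)
  -- so the orbit is a union of fibres
  obtain ⟨E₀, hE₀⟩ : ∃ E₀ : Set (Fin m), E₀ = {a | ∃ u ∈ O, u i = a} := ⟨_, rfl⟩
  have hOeq : O = Set.range fun z : E₀ × (Fin k → Fin m) => split i (z.1.1, z.2) := by
    ext u
    constructor
    · exact fun hu => ⟨(⟨u i, by rw [hE₀]; exact ⟨u, hu, rfl⟩⟩, fun l => u (i.succAbove l)), (eq_split i u).symm⟩
    · rintro ⟨⟨⟨a, ha⟩, v⟩, rfl⟩
      rw [hE₀] at ha
      obtain ⟨u, hu, rfl⟩ := ha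
      obtain ⟨z, hzW, hzs, hzv, hzG⟩ := exists_base_map hm hG i (fun l => u (i.succAbove l)) v
      have hn : put i 1 z ∈ centCoord G i c :=
        mem_centCoord.2 ⟨hzG, commute_put_coord i z (Commute.one_left c)⟩
      have := hstab _ hn _ (hBall p') (by rw [put_split, Perm.one_apply]; exact hBall _) u hu
      rwa [eq_split i u, put_split, Perm.one_apply, hzv] at this
  have hdiv : m ^ k ∣ Nat.card O := by
    rw [hOeq, Nat.card_range_of_injective (fun u v h => Prod.ext (Subtype.ext (Prod.mk.inj ((split i).injective h)).1)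
      (Prod.mk.inj ((split i).injective h)).2), Nat.card_prod,
      show Nat.card (Fin k → Fin m) = m ^ k by simp]
    exact dvd_mul_left _ _
  -- but its size is small times a power of `q`
  obtain ⟨a, ha⟩ : ∃ a, (stabilizer A f ⊔ K).index = q ^ a := by
    obtain ⟨a, ha⟩ := IsPGroup.iff_card.1 hquot
    rw [← Subgroup.index_eq_card] at ha
    obtain ⟨a', -, ha'⟩ := (Nat.dvd_prime_pow hq).1
      (ha ▸ Subgroup.index_dvd_of_le (le_sup_right : K ≤ stabilizer A f ⊔ K))
    exact ⟨a', ha'⟩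
  have hsize : Nat.card O = (stabilizer A f).relIndex K * q ^ a := by
    rw [hO, Nat.card_congr (orbitEquivQuotientStabilizer A f), ← Subgroup.index_eq_card, ← ha,
      ← Subgroup.relIndex_mul_index (le_sup_left : stabilizer A f ≤ stabilizer A f ⊔ K)]
    congr 1
    obtain ⟨T, hT⟩ : ∃ T, T = stabilizer A f := ⟨_, rfl⟩
    rw [← hT]
    have h1 := Subgroup.inf_relIndex_right T K
    have hcard1 : ∀ X Y : Subgroup A, X ≤ Y → Nat.card X * X.relIndex Y = Nat.card Y := fun X Y h => by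
      have h2 := (X.subgroupOf Y).card_mul_index
      rwa [Nat.card_congr (Subgroup.subgroupOfEquivOfLe h).toEquiv] at h2
    have e1 := hcard1 (T ⊓ K) K inf_le_right
    have e2 := hcard1 T (T ⊔ K) le_sup_left
    have e3 := hcard1 K (T ⊔ K) le_sup_right
    have e4 := hcard1 (T ⊓ K) T inf_le_left
    have h5 : K.relIndex (T ⊔ K) = (T ⊓ K).relIndex T := by
      rw [Subgroup.relIndex_sup_right, Subgroup.inf_relIndex_left]
    rw [h1] at e1
    rw [h5] at e3
    apply Nat.eq_of_mul_eq_mul_left (Nat.card_pos : 0 < Nat.card T)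
    rw [e2, ← e3, ← e1, ← e4]
    ring
  have hsub : (stabilizer A f).relIndex K ≤ E.card := by
    rw [Subgroup.relIndex, show (stabilizer A f).subgroupOf K = stabilizer K f from SetLike.ext fun _ => Iff.rfl,
      Subgroup.index_eq_card, ← Nat.card_congr (orbitEquivQuotientStabilizer K f)]
    refine le_of_le_of_eq (Nat.card_le_card_of_injective
      (f := fun u : orbit K f => (⟨(u : Fin (k + 1) → Fin m) i, ?_⟩ : {a // a ∈ E})) fun u v h => ?_)
      (by rw [Nat.card_eq_fintype_card, Fintype.card_coe])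
    · obtain ⟨z, hz⟩ := u.2
      rw [← hz]
      exact hOE _ ((hmO _).2 ⟨_, z.1.2, rfl⟩)
    · have hrest : ∀ u : orbit K f, ∀ l', (u : Fin (k + 1) → Fin m) (i.succAbove l') = f (i.succAbove l') := by
        rintro ⟨u, z, rfl⟩ l'
        have hz : ((z : A) : Perm (Fin (k + 1) → Fin m)) ∈ supported G {u | u i ∈ E} := by
          have h2 := z.2
          simp only [hK, Subgroup.mem_subgroupOf] at h2
          exact h2
        rw [mem_supported] at hz
        obtain ⟨d, hd⟩ := eq_coord_of_supported i hm hk IH hG hA hKE hz.1 fun u hu => hz.2 u hu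
        show ((z : A) : Perm (Fin (k + 1) → Fin m)) f (i.succAbove l') = _
        rw [hd, coord_ne (Fin.succAbove_ne i l')]
      refine Subtype.ext (funext fun l' => ?_)
      rcases Fin.eq_self_or_eq_succAbove i l' with h' | ⟨l', rfl⟩
      · subst h'; exact congrArg Subtype.val h
      · rw [hrest u, hrest v]
  refine hnum ((stabilizer A f).relIndex K) a (Nat.pos_of_ne_zero Subgroup.index_ne_zero_of_finite)
    (hEc ▸ hsub) ?_
  rw [mul_comm, ← hsize]
  exact (dvd_pow_self m (by omega)).trans hdiv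

end CfsgLib.Perm.Product
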