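import Cfsg.Agent.Lib.Perm.Product.Slice

/-!
Elements lifting coordinate permutations of the other coordinates.
-/

set_option autoImplicit false
set_option linter.unusedSectionVars false

namespace CfsgLib.Perm.Product

open Equiv Equiv.Perm Function

variable {k m : ℕ}

theorem coord_pow (i : Fin k) (c : Perm (Fin m)) (n : ℕ) : coord i c ^ n = coord i (c ^ n) := by
  induction n with
  | zero => rw [pow_zero, pow_zero, coord_one]
  | succ n ih => rw [pow_succ, pow_succ, coord_mul, ih]

theorem coord_split (i : Fin (k + 1)) (c : Perm (Fin m)) (v : Fin m) (p : Fin k → Fin m) :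
    coord i c (split i (v, p)) = split i (c v, p) := by
  rw [← put_coord, put_split, Perm.one_apply]

theorem put_eq_coord_mul (i : Fin (k + 1)) (d : Perm (Fin m)) (w : Perm (Fin k → Fin m)) :
    put i d w = coord i d * put i 1 w := by
  rw [← put_coord, ← put_mul, mul_one, one_mul]

theorem commute_put_coord (i : Fin (k + 1)) {c d : Perm (Fin m)} (w : Perm (Fin k → Fin m))
    (h : Commute d c) : Commute (put i d w) (coord i c) := by
  rw [Commute, SemiconjBy, ← put_coord, ← put_mul, ← put_mul, h.eq, mul_one, one_mul]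

theorem put_one_eq_one_or (i : Fin (k + 1)) (w : Perm (Fin k → Fin m)) :
    sign (put i (1 : Perm (Fin m)) w) = sign w ^ m := by
  rw [sign_put, map_one, one_pow, one_mul]

/-- every permutation of the other coordinates lifts with even sign and trivial first value -/
theorem exists_shuffle_even (hm : 5 ≤ m) (i : Fin (k + 1)) (π : Perm (Fin k)) :
    ∃ w : Perm (Fin k → Fin m), (∃ τ : Fin k → Perm (Fin m), ∀ f j, w f j = τ j (f (π.symm j))) ∧
      sign (put i (1 : Perm (Fin m)) w) = 1 := by
  obtain ⟨w₀, hw₀⟩ : ∃ w₀ : Perm (Fin k → Fin m), w₀ = Equiv.arrowCongr π (Equiv.refl (Fin m)) := ⟨_, rfl⟩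
  have hτ : ∀ f j, w₀ f j = f (π.symm j) := fun f j => by rw [hw₀]; rfl
  by_cases h : sign (put i (1 : Perm (Fin m)) w₀) = 1
  · exact ⟨w₀, ⟨1, fun f j => by rw [hτ]; rfl⟩, h⟩
  rw [put_one_eq_one_or] at h
  have hw1 : sign w₀ = -1 := by
    rcases Int.units_eq_one_or (sign w₀) with e | e
    · exact absurd (by rw [e, one_pow]) h
    · exact e
  have hodd : Odd m := by
    by_contra hc
    exact h (by rw [hw1, (Nat.not_odd_iff_even.1 hc).neg_one_pow])
  rcases k with _ | k
  · exact absurd (by rw [Subsingleton.elim w₀ 1, map_one, one_pow]) h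
  obtain ⟨j, -⟩ : ∃ j : Fin (k + 1), True := ⟨⟨0, by omega⟩, trivial⟩
  obtain ⟨a, ha⟩ := exists_notMem_fin (s := {(⟨0, by omega⟩ : Fin m)}) (by simp; omega)
  simp only [Finset.mem_singleton] at ha
  refine ⟨coord j (swap a ⟨0, by omega⟩) * w₀, ⟨Pi.mulSingle j (swap a ⟨0, by omega⟩), fun f l => ?_⟩, ?_⟩
  · rw [Perm.mul_apply, coord, base_apply, hτ]
  · rw [put_one_eq_one_or, map_mul, sign_coord_pow, sign_swap ha, hw1, (hodd.pow).neg_one_pow, neg_mul_neg,
      one_mul, one_pow]

/-- the centraliser in `G` of a coordinate permutation -/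
def centCoord (G : Subgroup (Perm (Fin (k + 1) → Fin m))) (i : Fin (k + 1)) (c : Perm (Fin m)) :
    Subgroup (Perm (Fin (k + 1) → Fin m)) := G ⊓ Subgroup.centralizer {coord i c}

theorem mem_centCoord {G : Subgroup (Perm (Fin (k + 1) → Fin m))} {i : Fin (k + 1)} {c : Perm (Fin m)}
    {g : Perm (Fin (k + 1) → Fin m)} : g ∈ centCoord G i c ↔ g ∈ G ∧ Commute g (coord i c) := by
  rw [centCoord, Subgroup.mem_inf, Subgroup.mem_centralizer_singleton_iff]
  exact ⟨fun h => ⟨h.1, h.2⟩, fun h => ⟨h.1, h.2⟩⟩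

theorem centCoord_restr_big (hm : 5 ≤ m) {G : Subgroup (Perm (Fin (k + 1) → Fin m))} (hG : Big G)
    (i : Fin (k + 1)) (c : Perm (Fin m)) (b : Fin m) : Big (restr i (centCoord G i c) b) := by
  have key : ∀ w, InW w → sign (put i (1 : Perm (Fin m)) w) = 1 → w ∈ restr i (centCoord G i c) b :=
    fun w hw hs => ⟨put i 1 w, mem_centCoord.2 ⟨hG.even _ (inW_put i 1 hw) hs,
      commute_put_coord i w (Commute.one_left c)⟩, fun p => put_split i 1 w b p⟩
  refine ⟨fun w hw hs => key w hw (by rw [put_one_eq_one_or, hs, one_pow]), fun π => ?_⟩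
  obtain ⟨w, hwτ, hs⟩ := exists_shuffle_even hm i π
  exact ⟨w, key w (by obtain ⟨τ, hτ⟩ := hwτ; exact ⟨π, τ, hτ⟩) hs, hwτ⟩

/-- even base elements move points of the other coordinates anywhere -/
theorem exists_base_map (hm : 5 ≤ m) {G : Subgroup (Perm (Fin (k + 1) → Fin m))} (hG : Big G)
    (i : Fin (k + 1)) (p q : Fin k → Fin m) :
    ∃ w : Perm (Fin k → Fin m), InW w ∧ sign w = 1 ∧ w p = q ∧ put i 1 w ∈ G := by
  choose u hu hup using fun j => exists_even_map' hm (p j) (q j)
  have hs : sign (base u) = 1 := by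
    classical
    suffices ∀ s : Finset (Fin k), sign (base (s.piecewise u 1)) = 1 by simpa using this Finset.univ
    intro s
    induction s using Finset.induction_on with
    | empty => rw [Finset.piecewise_empty, base_one, map_one]
    | insert j t hj ih =>
      have e : (insert j t).piecewise u 1 = Pi.mulSingle j (u j) * t.piecewise u 1 := by
        funext l
        rcases eq_or_ne l j with rfl | hl
        · simp [hj]
        · by_cases hlt : l ∈ t <;> simp [hl, hlt]
      rw [e, base_mul, map_mul, ih, mul_one]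
      obtain ⟨k', rfl⟩ : ∃ k', k = k' + 1 := ⟨k - 1, by have := j.isLt; omega⟩
      rw [← coord, sign_coord_pow, hu, one_pow]
  refine ⟨base u, inW_base u, hs, funext fun j => by rw [base_apply, hup], hG.even _ (inW_put i 1 (inW_base u)) ?_⟩
  rw [put_one_eq_one_or, hs, one_pow]

/-- even elements of the wreath product fix exactly one point each -/
theorem exists_inW_fix_move (hm : 5 ≤ m) {p q : Fin k → Fin m} (h : p ≠ q) :
    ∃ w : Perm (Fin k → Fin m), InW w ∧ sign w = 1 ∧ w p = p ∧ w q ≠ q := by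
  obtain ⟨w, -, h1, h2, h3, h4⟩ :=
    Big.exists_fix_move hm (G := (⊤ : Subgroup (Perm (Fin k → Fin m))))
      ⟨fun _ _ _ => trivial, fun π => ⟨(Equiv.arrowCongr π (Equiv.refl (Fin m)) : Perm (Fin k → Fin m)), trivial,
        1, fun _ _ => rfl⟩⟩ h
  exact ⟨w, h1, h2, h3, h4⟩

end CfsgLib.Perm.Product
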