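import Mathlib

/-!
The length of the coordinate cycle: a prime power in the upper half of the degree.
-/

set_option autoImplicit false
set_option linter.unusedSectionVars false

namespace CfsgLib.Perm.Product

theorem no_dvd_of_prime {m q : ℕ} (hq : q.Prime) (h1 : m < 2 * q) (h2 : q < m) :
    ∀ b i : ℕ, 1 ≤ b → b ≤ m - q → ¬ m ∣ q ^ i * b := by
  intro b i hb hbf hd
  have hc : Nat.Coprime q m := by
    refine hq.coprime_iff_not_dvd.2 fun hdv => ?_
    obtain ⟨c, rfl⟩ := hdv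
    have hc2 : c < 2 := Nat.lt_of_mul_lt_mul_left (a := q) (by omega)
    interval_cases c <;> omega
  have := Nat.le_of_dvd hb ((hc.symm.pow_right i).dvd_of_dvd_mul_left hd)
  omega

/-- the prime power -/
theorem exists_cycle_length {m : ℕ} (hm : 5 ≤ m) :
    ∃ q e : ℕ, q.Prime ∧ 1 ≤ e ∧ m < 2 * q ^ e ∧ q ^ e + 2 ≤ m ∧ (Odd m → Odd (q ^ e)) ∧
      ∀ b i : ℕ, 1 ≤ b → b ≤ m - q ^ e → ¬ m ∣ q ^ i * b := by
  rcases Nat.even_or_odd' m with ⟨t, rfl | rfl⟩
  · obtain ⟨p, hp, hp1, hp2⟩ := Nat.exists_prime_lt_and_le_two_mul (t - 1) (by omega)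
    have hno : ¬ Odd (2 * t) := Nat.not_odd_iff_even.2 (even_two_mul t)
    by_cases hpt : p = t
    · -- twice a prime
      subst hpt
      obtain ⟨e, he⟩ : ∃ e, e = Nat.log 2 p + 1 := ⟨_, rfl⟩
      have h1 : p < 2 ^ e := by rw [he]; exact Nat.lt_pow_succ_log_self one_lt_two p
      have h2 : 2 ^ e ≤ 2 * p := by
        rw [he, pow_succ']; exact Nat.mul_le_mul_left 2 (Nat.pow_log_le_self 2 hp.ne_zero)
      have hne : 2 ^ e ≠ 2 * p := by
        intro h
        have : p ∣ 2 ^ e := h ▸ dvd_mul_left p 2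
        have := (Nat.prime_dvd_prime_iff_eq hp Nat.prime_two).1 (hp.dvd_of_dvd_pow this)
        omega
      obtain ⟨d, hd⟩ : ∃ d, 2 ^ e = 2 * d := ⟨2 ^ Nat.log 2 p, by rw [he, pow_succ']⟩
      refine ⟨2, e, Nat.prime_two, by omega, by omega, by omega, fun h => absurd h hno, fun b i hb hbf hdv => ?_⟩
      have hpd : p ∣ 2 ^ i * b := (dvd_mul_left p 2).trans hdv
      rcases (hp.dvd_mul).1 hpd with h | h
      · have := (Nat.prime_dvd_prime_iff_eq hp Nat.prime_two).1 (hp.dvd_of_dvd_pow h)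
        omega
      · have := Nat.le_of_dvd hb h
        omega
    · refine ⟨p, 1, hp, le_rfl, ?_, ?_, fun h => absurd h hno, ?_⟩ <;> rw [pow_one]
      · omega
      · omega
      · exact no_dvd_of_prime hp (by omega) (by omega)
  · obtain ⟨p, hp, hp1, hp2⟩ := Nat.exists_prime_lt_and_le_two_mul t (by omega)
    have hodd : Odd p := hp.odd_of_ne_two (by omega)
    have hne : p ≠ 2 * t := by
      obtain ⟨c, rfl⟩ := hodd
      omega
    refine ⟨p, 1, hp, le_rfl, ?_, ?_, fun _ => by rwa [pow_one], ?_⟩ <;> rw [pow_one]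
    · omega
    · omega
    · exact no_dvd_of_prime hp (by omega) (by omega)

end CfsgLib.Perm.Product
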