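import Cfsg.Agent.Lib.Perm.Product.Core

/-!
Subgroups with enough of the wreath product are primitive; their normalised subgroups contain the even
coordinate permutations.
-/

set_option autoImplicit false
set_option linter.unusedSectionVars false
set_option linter.style.haveILetI false

namespace CfsgLib.Perm.Product

open Equiv Equiv.Perm Function MulAction
open scoped Pointwise

theorem exists_notMem_of_card {α : Type*} [Fintype α] {s : Finset α} (h : s.card < Fintype.card α) :
    ∃ x, x ∉ s := by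
  by_contra hc
  push Not at hc
  rw [Finset.eq_univ_of_forall hc, Finset.card_univ] at h
  exact lt_irrefl _ h

/-- a conjugate by an even permutation that does not commute -/
theorem exists_noncomm_conj {α : Type*} [Fintype α] [DecidableEq α] (h5 : 5 ≤ Fintype.card α) {s : Perm α}
    (hs : s ≠ 1) : ∃ c : Perm α, sign c = 1 ∧ s * (c * s * c⁻¹) ≠ c * s * c⁻¹ * s := by
  obtain ⟨a, ha⟩ : ∃ a, s a ≠ a := by
    by_contra h
    push Not at h
    exact hs (Equiv.ext h)
  obtain ⟨d, hd⟩ : ∃ d, d ∉ ({a, s a} : Finset α) :=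
    exists_notMem_of_card (lt_of_le_of_lt Finset.card_le_two (by omega))
  obtain ⟨e, he⟩ : ∃ e, e ∉ ({a, s a, d, s d} : Finset α) :=
    exists_notMem_of_card (lt_of_le_of_lt Finset.card_le_four (by omega))
  simp only [Finset.mem_insert, Finset.mem_singleton, not_or] at hd he
  obtain ⟨b, hb⟩ : ∃ b, b = s a := ⟨_, rfl⟩
  rw [← hb] at hd he ha
  obtain ⟨c, hc⟩ : ∃ c : Perm α, c = swap b d * swap d e := ⟨_, rfl⟩
  have hca : c a = a := by
    simp [hc, swap_apply_of_ne_of_ne, Ne.symm ha, Ne.symm hd.1, Ne.symm he.1]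
  have hcb : c b = d := by
    simp [hc, swap_apply_of_ne_of_ne, Ne.symm hd.2, Ne.symm he.2.1]
  have hce : c e = b := by simp [hc]
  have hcd : c d = e := by
    simp [hc, swap_apply_of_ne_of_ne, he.2.1, he.2.2.1]
  refine ⟨c, by rw [hc, map_mul, sign_swap (Ne.symm hd.2), sign_swap (Ne.symm he.2.2.1)]; rfl, fun h => ?_⟩
  have hia : c⁻¹ a = a := (Perm.inv_eq_iff_eq).2 hca.symm
  have hib : c⁻¹ b = e := (Perm.inv_eq_iff_eq).2 hce.symm
  have h1 := congrArg (fun g : Perm α => g a) h
  simp only [Perm.mul_apply, hia, ← hb, hib, hcb] at h1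
  -- `h1 : s d = c (s e)`
  by_cases hx : s e = b ∨ s e = d ∨ s e = e
  · rcases hx with hx | hx | hx
    · exact he.1 (s.injective (hx.trans hb))
    · rw [hx, hcd] at h1
      exact he.2.2.2 h1.symm
    · rw [hx, hce, hb] at h1
      exact hd.1 (s.injective h1)
  · push Not at hx
    have : c (s e) = s e := by simp [hc, swap_apply_of_ne_of_ne, hx.1, hx.2.1, hx.2.2]
    rw [this] at h1
    exact he.2.2.1 (s.injective h1.symm)

/-- a non-commuting even permutation -/
theorem exists_noncomm_even {α : Type*} [Fintype α] [DecidableEq α] (h5 : 5 ≤ Fintype.card α) {s : Perm α}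
    (hs : s ≠ 1) : ∃ c : Perm α, sign c = 1 ∧ s * c ≠ c * s := by
  obtain ⟨c, hc, h⟩ := exists_noncomm_conj h5 hs
  refine ⟨c, hc, fun e => h ?_⟩
  rw [← e, mul_inv_cancel_right]

variable {k m : ℕ}

theorem exists_notMem_fin {s : Finset (Fin m)} (h : s.card < m) : ∃ x, x ∉ s :=
  exists_notMem_of_card (by rwa [Fintype.card_fin])

/-- even permutations move a point anywhere, fixing a third -/
theorem exists_even_map (hm : 5 ≤ m) {a b z : Fin m} (ha : a ≠ z) (hb : b ≠ z) :
    ∃ u : Perm (Fin m), sign u = 1 ∧ u z = z ∧ u a = b := by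
  rcases eq_or_ne a b with rfl | hab
  · exact ⟨1, map_one _, rfl, rfl⟩
  obtain ⟨x, hx⟩ := exists_notMem_fin (s := {a, b, z}) (lt_of_le_of_lt Finset.card_le_three (by omega))
  obtain ⟨y, hy⟩ := exists_notMem_fin (s := {a, b, z, x}) (lt_of_le_of_lt Finset.card_le_four (by omega))
  simp only [Finset.mem_insert, Finset.mem_singleton, not_or] at hx hy
  refine ⟨swap a b * swap x y, by rw [map_mul, sign_swap hab, sign_swap (Ne.symm hy.2.2.2)]; rfl, ?_, ?_⟩
  · simp [swap_apply_of_ne_of_ne, Ne.symm ha, Ne.symm hb, Ne.symm hx.2.2, Ne.symm hy.2.2.1]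
  · simp [swap_apply_of_ne_of_ne, Ne.symm hx.1, Ne.symm hy.1]

theorem exists_even_map' (hm : 5 ≤ m) (a b : Fin m) : ∃ u : Perm (Fin m), sign u = 1 ∧ u a = b := by
  obtain ⟨z, hz⟩ := exists_notMem_fin (s := {a, b}) (lt_of_le_of_lt Finset.card_le_two (by omega))
  simp only [Finset.mem_insert, Finset.mem_singleton, not_or] at hz
  obtain ⟨u, h1, -, h2⟩ := exists_even_map hm (Ne.symm hz.1) (Ne.symm hz.2)
  exact ⟨u, h1, h2⟩

variable {G : Subgroup (Perm (Fin k → Fin m))}

/-- base elements with even values -/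
theorem Big.base_mem (hG : Big G) (τ : Fin k → Perm (Fin m)) (h : ∀ j, sign (τ j) = 1) : base τ ∈ G := by
  classical
  suffices ∀ s : Finset (Fin k), base (s.piecewise τ 1) ∈ G by simpa using this Finset.univ
  intro s
  induction s using Finset.induction_on with
  | empty => rw [Finset.piecewise_empty, base_one]; exact G.one_mem
  | insert j t hj ih =>
    have e : (insert j t).piecewise τ 1 = Pi.mulSingle j (τ j) * t.piecewise τ 1 := by
      funext l
      rcases eq_or_ne l j with rfl | hl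
      · simp [hj]
      · by_cases hlt : l ∈ t <;> simp [hl, hlt]
    rw [e, base_mul]
    exact G.mul_mem (hG.coord_mem j (τ j) (h j)) ih

/-- every coordinate permutation, with any point going to any other -/
theorem Big.exists_map (hm : 5 ≤ m) (hG : Big G) (π : Perm (Fin k)) (f f' : Fin k → Fin m) :
    ∃ g ∈ G, g f = f' ∧ ∃ τ : Fin k → Perm (Fin m), ∀ h j, g h j = τ j (h (π.symm j)) := by
  obtain ⟨g, hg, τ, hτ⟩ := hG.perm π
  choose u hu1 hu2 using fun j => exists_even_map' hm (g f j) (f' j)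
  refine ⟨base u * g, G.mul_mem (hG.base_mem u hu1) hg, ?_, fun j => u j * τ j, fun h j => ?_⟩
  · funext j
    rw [Perm.mul_apply, base_apply, hu2]
  · rw [Perm.mul_apply, base_apply, hτ]; rfl

/-- the stabiliser of a point fixes no other point -/
theorem Big.exists_fix_move (hm : 5 ≤ m) (hG : Big G) {f f' : Fin k → Fin m} (h : f ≠ f') :
    ∃ g ∈ G, InW g ∧ sign g = 1 ∧ g f = f ∧ g f' ≠ f' := by
  obtain ⟨j, hj⟩ : ∃ j, f j ≠ f' j := by
    by_contra hc
    push Not at hc
    exact h (funext hc)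
  obtain ⟨k, rfl⟩ : ∃ k', k = k' + 1 := ⟨k - 1, by have := j.isLt; omega⟩
  obtain ⟨b, hb⟩ := exists_notMem_fin (s := {f j, f' j}) (lt_of_le_of_lt Finset.card_le_two (by omega))
  simp only [Finset.mem_insert, Finset.mem_singleton, not_or] at hb
  obtain ⟨u, hu, huf, hub⟩ := exists_even_map hm (Ne.symm hj) hb.1
  refine ⟨coord j u, hG.coord_mem j u hu, inW_coord j u, by rw [sign_coord_pow, hu, one_pow], ?_, fun e => ?_⟩
  · rw [coord_apply, huf, update_eq_self]
  · have := congrFun e j
    rw [coord_self, hub] at this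
    exact hb.2 this

theorem Big.pretransitive (hm : 5 ≤ m) (hG : Big G) : IsPretransitive G (Fin k → Fin m) :=
  ⟨fun f f' => by
    obtain ⟨g, hg, hgf, -⟩ := hG.exists_map hm 1 f f'
    exact ⟨⟨g, hg⟩, hgf⟩⟩

/-- primitivity -/
theorem Big.preprimitive (hm : 5 ≤ m) (hG : Big G) : IsPreprimitive G (Fin k → Fin m) := by
  haveI := hG.pretransitive hm
  refine { isTrivialBlock_of_isBlock := fun {B} hB => ?_ }
  refine or_iff_not_imp_left.2 fun hns => ?_
  rw [Set.not_subsingleton_iff] at hns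
  obtain ⟨f, hf, f', hf', hne⟩ := hns
  have hfix : ∀ g ∈ G, ∀ r ∈ B, g r ∈ B → ∀ q ∈ B, g q ∈ B := by
    intro g hg r hr hgr q hq
    have h2 : (⟨g, hg⟩ : G) • B = B := (isBlock_iff_smul_eq_of_nonempty.1 hB)
      ⟨g r, ⟨r, hr, rfl⟩, hgr⟩
    rw [← h2]
    exact ⟨q, hq, rfl⟩
  have step : ∀ r ∈ B, ∀ q ∈ B, ∀ j, r j ≠ q j → ∀ v, v ≠ r j → update q j v ∈ B := by
    intro r hr q hq j hj v hv
    obtain ⟨u, hu, hur, huq⟩ := exists_even_map hm (Ne.symm hj) hv
    have := hfix _ (hG.coord_mem j u hu) r hr (by rw [coord_apply, hur, update_eq_self]; exact hr) q hq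
    rwa [coord_apply, huq] at this
  have line : ∀ r ∈ B, ∀ q ∈ B, ∀ j, r j ≠ q j → ∀ v, update q j v ∈ B := by
    intro r hr q hq j hj v
    rcases eq_or_ne v (r j) with rfl | hv
    · obtain ⟨w, hw⟩ := exists_notMem_fin (s := {r j, q j}) (lt_of_le_of_lt Finset.card_le_two (by omega))
      simp only [Finset.mem_insert, Finset.mem_singleton, not_or] at hw
      have hw1 := step r hr q hq j hj w hw.1
      have := step _ hw1 q hq j (by rw [update_self]; exact hw.2) (r j) (by rw [update_self]; exact Ne.symm hw.1)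
      exact this
    · exact step r hr q hq j hj v hv
  have full : ∀ q ∈ B, ∀ l v, update q l v ∈ B := by
    intro q hq l v
    obtain ⟨r, hr, hrq⟩ : ∃ r ∈ B, r ≠ q := by
      rcases eq_or_ne f q with rfl | h
      · exact ⟨f', hf', Ne.symm hne⟩
      · exact ⟨f, hf, h⟩
    obtain ⟨j, hj⟩ : ∃ j, r j ≠ q j := by
      by_contra hc
      push Not at hc
      exact hrq (funext hc)
    obtain ⟨g, hg, hgq, τ, hτ⟩ := hG.exists_map hm (swap j l) q q
    obtain ⟨a, ha⟩ := (τ l).surjective v
    have h2 := hfix g hg q hq (hgq.symm ▸ hq) _ (line r hr q hq j hj a)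
    convert h2 using 1
    funext b
    rcases eq_or_ne b l with rfl | hb
    · rw [update_self, hτ, Equiv.symm_swap, swap_apply_right, update_self, ha]
    · rw [update_of_ne hb, hτ, update_of_ne (fun e => hb (by
        rw [Equiv.symm_swap] at e
        simpa using congrArg (swap j l) e)), ← hτ q b, hgq]
  rw [Set.eq_univ_iff_forall]
  intro q
  suffices ∀ s : Finset (Fin k), s.piecewise q f ∈ B by simpa using this Finset.univ
  intro s
  induction s using Finset.induction_on with
  | empty => simpa using hf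
  | insert j t hj ih => rw [Finset.piecewise_insert]; exact full _ ih j _

/-- a nontrivial normalised subgroup is transitive -/
theorem Big.transitive_of_normalised (hm : 5 ≤ m) {H : Subgroup (Perm (Fin k → Fin m))} (hH : Big H)
    {Y : Subgroup (Perm (Fin k → Fin m))} (hYH : Y ≤ H) (hn : ∀ h ∈ H, ∀ y ∈ Y, h * y * h⁻¹ ∈ Y)
    {y : Perm (Fin k → Fin m)} (hy : y ∈ Y) (hy1 : y ≠ 1) (p q : Fin k → Fin m) : ∃ z ∈ Y, z p = q := by
  haveI := hH.preprimitive hm
  haveI : (Y.subgroupOf H).Normal := ⟨fun z hz g => by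
    rw [Subgroup.mem_subgroupOf] at hz ⊢
    simpa using hn _ g.2 _ hz⟩
  have : IsPretransitive (Y.subgroupOf H) (Fin k → Fin m) := IsQuasiPreprimitive.isPretransitive_of_normal
    fun e => hy1 (Equiv.ext fun x => by
      have hx : x ∈ fixedPoints (Y.subgroupOf H) (Fin k → Fin m) := e ▸ Set.mem_univ x
      exact hx ⟨⟨y, hYH hy⟩, Subgroup.mem_subgroupOf.2 hy⟩)
  obtain ⟨z, hz⟩ := exists_smul_eq (Y.subgroupOf H) p q
  exact ⟨_, Subgroup.mem_subgroupOf.1 z.2, hz⟩

/-- a nontrivial normalised subgroup contains every even coordinate permutation -/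
theorem Big.coord_mem_of_normalised (hm : 5 ≤ m) {H : Subgroup (Perm (Fin k → Fin m))} (hH : Big H)
    (hdi : (∀ g ∈ H, InW g) ∨ alternatingGroup (Fin k → Fin m) ≤ H)
    {Y : Subgroup (Perm (Fin k → Fin m))} (hYH : Y ≤ H) (hn : ∀ h ∈ H, ∀ y ∈ Y, h * y * h⁻¹ ∈ Y)
    {y : Perm (Fin k → Fin m)} (hy : y ∈ Y) (hy1 : y ≠ 1) (j : Fin k) {c : Perm (Fin m)} (hc : sign c = 1) :
    coord j c ∈ Y := by
  obtain ⟨k, rfl⟩ : ∃ k', k = k' + 1 := ⟨k - 1, by have := j.isLt; omega⟩
  have h5 : 5 ≤ Fintype.card (Fin m) := by simpa using hm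
  have hcomm : ∀ h ∈ H, ∀ z ∈ Y, h * z * h⁻¹ * z⁻¹ ∈ Y := fun h hh z hz => Y.mul_mem (hn h hh z hz) (Y.inv_mem hz)
  rcases hdi with hW | hA
  · -- a base element
    obtain ⟨τ, hτY, hτ1⟩ : ∃ τ : Fin (k + 1) → Perm (Fin m), base τ ∈ Y ∧ τ ≠ 1 := by
      obtain ⟨π, τ, hτ⟩ := hW y (hYH hy)
      by_cases hπ : π = 1
      · refine ⟨τ, ?_, fun e => hy1 (Equiv.ext fun f => funext fun i => ?_)⟩
        · have : base τ = y := Equiv.ext fun f => funext fun i => by rw [hτ, hπ]; rfl
          rw [this]; exact hy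
        · rw [hτ, e, hπ]; rfl
      obtain ⟨i, hi⟩ : ∃ i, π i ≠ i := by
        by_contra h
        push Not at h
        exact hπ (Equiv.ext h)
      obtain ⟨a, ha, ha1⟩ : ∃ a : Perm (Fin m), sign a = 1 ∧ a ≠ 1 := by
        obtain ⟨z, hz⟩ := exists_notMem_fin (s := {(⟨0, by omega⟩ : Fin m)}) (by simp; omega)
        obtain ⟨a, ha, ha'⟩ := exists_even_map' hm (⟨0, by omega⟩ : Fin m) z
        exact ⟨a, ha, fun e => by rw [e] at ha'; simp at hz; exact hz ha'.symm⟩
      refine ⟨Pi.mulSingle i a * Pi.mulSingle (π i) (τ (π i) * a⁻¹ * (τ (π i))⁻¹), ?_, fun e => ?_⟩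
      · have hyc : y * coord i a⁻¹ * y⁻¹ = coord (π i) (τ (π i) * a⁻¹ * (τ (π i))⁻¹) := by
          rw [mul_inv_eq_iff_eq_mul]
          refine Equiv.ext fun f => funext fun l => ?_
          rw [Perm.mul_apply, Perm.mul_apply, hτ]
          rcases eq_or_ne l (π i) with rfl | hl
          · rw [Equiv.symm_apply_apply, coord_self, coord_self, hτ, Equiv.symm_apply_apply]
            simp
          · rw [coord_ne hl, hτ, coord_ne fun e => hl (by rw [← e, Equiv.apply_symm_apply])]
        have := hcomm _ (hH.coord_mem i a ha) y hy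
        rw [← coord_inv, mul_assoc, mul_assoc, ← mul_assoc y, hyc] at this
        rw [base_mul]
        exact this
      · have h := congrFun e i
        rw [Pi.mul_apply, Pi.mulSingle_eq_same, Pi.mulSingle_eq_of_ne (Ne.symm hi), mul_one, Pi.one_apply] at h
        exact ha1 h
    obtain ⟨i, hi⟩ : ∃ i, τ i ≠ 1 := by
      by_contra h
      push Not at h
      exact hτ1 (funext h)
    obtain ⟨a, ha, hae⟩ := exists_noncomm_even h5 hi
    obtain ⟨b, hb⟩ : ∃ b, b = a * τ i * a⁻¹ * (τ i)⁻¹ := ⟨_, rfl⟩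
    have hb1 : b ≠ 1 := fun e => hae (by
      have : a * τ i = τ i * a := by rwa [hb, mul_inv_eq_one, mul_inv_eq_iff_eq_mul] at e
      exact this.symm)
    have hbY : coord i b ∈ Y := by
      have := hcomm _ (hH.coord_mem i a ha) _ hτY
      unfold coord at this ⊢
      rw [← base_inv, ← base_inv, ← base_mul, ← base_mul, ← base_mul] at this
      convert this using 2
      funext l
      rcases eq_or_ne l i with rfl | hl
      · simp [hb]
      · simp [hl]
    -- simplicity of the alternating group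
    obtain ⟨K, hK⟩ : ∃ K : Subgroup (alternatingGroup (Fin m)), ∀ x : alternatingGroup (Fin m),
        x ∈ K ↔ coord i (x : Perm (Fin m)) ∈ Y :=
      ⟨{ carrier := {x | coord i (x : Perm (Fin m)) ∈ Y}
         one_mem' := by show coord i (1 : Perm (Fin m)) ∈ Y; rw [coord_one]; exact Y.one_mem
         mul_mem' := fun {x z} hx hz => by
           show coord i ((x : Perm (Fin m)) * (z : Perm (Fin m))) ∈ Y
           rw [coord_mul]; exact Y.mul_mem hx hz
         inv_mem' := fun {x} hx => by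
           show coord i ((x : Perm (Fin m))⁻¹) ∈ Y
           rw [coord_inv]; exact Y.inv_mem hx }, fun _ => Iff.rfl⟩
    haveI := alternatingGroup.isSimpleGroup (α := Fin m) (by rwa [Nat.card_eq_fintype_card])
    haveI : K.Normal := ⟨fun x hx g => by
      rw [hK] at hx ⊢
      show coord i ((g : Perm (Fin m)) * (x : Perm (Fin m)) * (g : Perm (Fin m))⁻¹) ∈ Y
      rw [coord_mul, coord_mul, coord_inv]
      exact hn _ (hH.coord_mem i g (mem_alternatingGroup.1 g.2)) _ hx⟩
    have hKtop : K = ⊤ := by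
      refine (IsSimpleGroup.eq_bot_or_eq_top_of_normal K ‹_›).resolve_left fun e => hb1 ?_
      have hbA : b ∈ alternatingGroup (Fin m) := by
        rw [mem_alternatingGroup, hb, map_mul, map_mul, map_mul, Perm.sign_inv, Perm.sign_inv, ha, one_mul,
          mul_one, Int.units_mul_self]
      have : (⟨b, hbA⟩ : alternatingGroup (Fin m)) ∈ K := (hK _).2 hbY
      rw [e, Subgroup.mem_bot] at this
      exact congrArg Subtype.val this
    obtain ⟨g, hg, τ', hg'⟩ := hH.perm (swap i j)
    have key := hn g hg _ ((hK ⟨(τ' j)⁻¹ * c * τ' j, by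
      rw [mem_alternatingGroup, map_mul, map_mul, Perm.sign_inv, hc, mul_one, Int.units_mul_self]⟩).1
      (hKtop ▸ Subgroup.mem_top _))
    convert key using 1
    rw [eq_mul_inv_iff_mul_eq]
    refine Equiv.ext fun f => funext fun l => ?_
    rw [Perm.mul_apply, Perm.mul_apply]
    rcases eq_or_ne l j with rfl | hl
    · rw [coord_self, hg', hg', Equiv.symm_swap, swap_apply_right, coord_self]
      simp
    · rw [coord_ne hl, hg', hg', Equiv.symm_swap, coord_ne fun e => hl (by simpa using congrArg (swap i j) e)]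
  · have hN5 : 5 ≤ Fintype.card (Fin (k + 1) → Fin m) := by
      rw [Fintype.card_fun, Fintype.card_fin, Fintype.card_fin]
      exact le_trans hm (Nat.le_self_pow (by omega) m)
    haveI := alternatingGroup.isSimpleGroup (α := Fin (k + 1) → Fin m) (by rwa [Nat.card_eq_fintype_card])
    obtain ⟨u, hu, hne⟩ := exists_noncomm_even hN5 hy1
    have huA : u ∈ alternatingGroup (Fin (k + 1) → Fin m) := mem_alternatingGroup.2 hu
    haveI : (Y.subgroupOf (alternatingGroup (Fin (k + 1) → Fin m))).Normal := ⟨fun z hz g => by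
      rw [Subgroup.mem_subgroupOf] at hz ⊢
      simpa using hn _ (hA g.2) _ hz⟩
    have hz : u * y * u⁻¹ * y⁻¹ ∈ alternatingGroup (Fin (k + 1) → Fin m) := by
      rw [mem_alternatingGroup, map_mul, map_mul, map_mul, Perm.sign_inv, Perm.sign_inv, hu, one_mul,
        mul_one, Int.units_mul_self]
    have hsign : sign (coord j c) = 1 := by rw [sign_coord_pow, hc, one_pow]
    rcases IsSimpleGroup.eq_bot_or_eq_top_of_normal
      (Y.subgroupOf (alternatingGroup (Fin (k + 1) → Fin m))) ‹_› with e | e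
    · exfalso
      have : (⟨_, hz⟩ : alternatingGroup (Fin (k + 1) → Fin m)) ∈ Y.subgroupOf _ :=
        Subgroup.mem_subgroupOf.2 (hcomm u (hA huA) y hy)
      rw [e, Subgroup.mem_bot] at this
      have h1 : u * y * u⁻¹ * y⁻¹ = 1 := congrArg Subtype.val this
      rw [mul_inv_eq_one, mul_inv_eq_iff_eq_mul] at h1
      exact hne h1.symm
    · have : (⟨coord j c, mem_alternatingGroup.2 hsign⟩ : alternatingGroup (Fin (k + 1) → Fin m)) ∈
          Y.subgroupOf _ := e ▸ Subgroup.mem_top _
      exact Subgroup.mem_subgroupOf.1 this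

end CfsgLib.Perm.Product
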