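import Cfsg.Agent.Lib.Perm.Product.Hamming

/-!
The wreath product in product action is proper, and the reduction of maximality to overgroups of its even part.
-/

set_option autoImplicit false
set_option linter.unusedSectionVars false

namespace CfsgLib.Perm.Product

open Function

variable {k m : ℕ}

theorem InW.adj {σ : Equiv.Perm (Fin k → Fin m)} (h : InW σ) {f g : Fin k → Fin m} (ha : Adj f g) :
    Adj (σ f) (σ g) := by
  obtain ⟨π, τ, e⟩ := h
  obtain ⟨i, hi, hi'⟩ := ha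
  refine ⟨π i, ?_, fun j hj => ?_⟩
  · rw [e, e, Equiv.symm_apply_apply]
    exact fun he => hi ((τ (π i)).injective he)
  · rw [e, e, hi' _ fun he => hj (by rw [← he, Equiv.apply_symm_apply])]

/-- some three-cycle is outside -/
theorem exists_even_not_inW (hm : 3 ≤ m) (hk : 2 ≤ k) :
    ∃ σ ∈ alternatingGroup (Fin k → Fin m), ¬ InW σ := by
  obtain ⟨c, hc⟩ : ∃ c : Fin 3 → (Fin k → Fin m), c = fun a _ => ⟨a.val, by have := a.isLt; omega⟩ := ⟨_, rfl⟩
  have hci : ∀ a b, c a = c b → a = b := fun a b e => by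
    rw [hc] at e
    have := congrFun e ⟨0, by omega⟩
    exact Fin.ext (by simpa using this)
  have hne : ∀ a b, a ≠ b → c a ≠ c b := fun a b h e => h (hci a b e)
  obtain ⟨σ, hσ⟩ : ∃ σ : Equiv.Perm (Fin k → Fin m), σ = Equiv.swap (c 0) (c 2) * Equiv.swap (c 2) (c 1) := ⟨_, rfl⟩
  refine ⟨σ, ?_, fun hW => ?_⟩
  · rw [Equiv.Perm.mem_alternatingGroup, hσ, Equiv.Perm.sign_mul, Equiv.Perm.sign_swap (hne 0 2 (by decide)),
      Equiv.Perm.sign_swap (hne 2 1 (by decide))]
    rfl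
  obtain ⟨g, hg⟩ : ∃ g, g = update (c 0) ⟨0, by omega⟩ ⟨1, by omega⟩ := ⟨_, rfl⟩
  have hcg : ∀ a, c a ≠ g := by
    intro a e
    have e0 := congrFun e ⟨0, by omega⟩
    have e1 := congrFun e ⟨1, by omega⟩
    rw [hg, update_self] at e0
    rw [hg, update_of_ne (by simp)] at e1
    rw [hc] at e0 e1
    simp at e0 e1
    omega
  have hadj := hW.adj (hg ▸ adj_update (c 0) ⟨0, by omega⟩ (by rw [hc]; simp) : Adj (c 0) g)
  rw [hσ, Equiv.Perm.mul_apply, Equiv.Perm.mul_apply, Equiv.swap_apply_of_ne_of_ne (hne 0 2 (by decide))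
    (hne 0 1 (by decide)), Equiv.swap_apply_left, Equiv.swap_apply_of_ne_of_ne (hcg 2).symm (hcg 1).symm,
    Equiv.swap_apply_of_ne_of_ne (hcg 0).symm (hcg 2).symm] at hadj
  obtain ⟨i, -, hi⟩ := hadj
  obtain ⟨j, hj⟩ : ∃ j : Fin k, j ≠ i := by
    by_cases h0 : i = ⟨0, by omega⟩
    · exact ⟨⟨1, by omega⟩, fun e => by rw [h0, Fin.mk.injEq] at e; omega⟩
    · exact ⟨⟨0, by omega⟩, Ne.symm h0⟩
  have := hi j hj
  rw [hg, update_apply, hc] at this
  split_ifs at this <;> simp at this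

/-- maximality from control of the overgroups of the even part -/
theorem coatoms_of_overgroups (hm : 3 ≤ m) (hk : 2 ≤ k)
    (hmax : ∀ G : Subgroup (Equiv.Perm (Fin k → Fin m)), wreath k m ⊓ alternatingGroup (Fin k → Fin m) ≤ G →
      alternatingGroup (Fin k → Fin m) ≤ G ∨ G ≤ wreath k m) :
    (∃ M : Subgroup ↥(alternatingGroup (Fin k → Fin m)), IsCoatom M ∧ ∀ σ : ↥(alternatingGroup (Fin k → Fin m)),
      σ ∈ M ↔ InW (σ : Equiv.Perm (Fin k → Fin m))) ∧
    ((∃ σ : Equiv.Perm (Fin k → Fin m), Equiv.Perm.sign σ = -1 ∧ InW σ) →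
      ∃ M : Subgroup (Equiv.Perm (Fin k → Fin m)), IsCoatom M ∧ ∀ σ, σ ∈ M ↔ InW σ) := by
  classical
  obtain ⟨t, htA, htW⟩ := exists_even_not_inW hm hk
  refine ⟨⟨(wreath k m).subgroupOf (alternatingGroup _), ⟨fun e => ?_, fun K hK => ?_⟩, fun σ => Iff.rfl⟩, ?_⟩
  · exact htW (e.ge (Subgroup.mem_top (⟨t, htA⟩ : alternatingGroup (Fin k → Fin m))))
  · have hle : wreath k m ⊓ alternatingGroup _ ≤ K.map (alternatingGroup _).subtype := fun x hx =>
      ⟨⟨x, hx.2⟩, hK.le hx.1, rfl⟩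
    rcases hmax _ hle with h | h
    · rw [eq_top_iff]
      intro x _
      obtain ⟨y, hy, hyx⟩ := h x.2
      exact (Subtype.ext hyx : y = x) ▸ hy
    · exact absurd (fun x hx => h ⟨x, hx, rfl⟩) hK.not_ge
  · rintro ⟨s, hs, hsW⟩
    refine ⟨wreath k m, ⟨fun e => htW (e.ge (Subgroup.mem_top t) : t ∈ wreath k m), fun K hK => ?_⟩, fun σ => Iff.rfl⟩
    rcases hmax K (inf_le_left.trans hK.le) with h | h
    · rw [eq_top_iff]
      intro x _
      rcases Int.units_eq_one_or (Equiv.Perm.sign x) with e | e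
      · exact h (Equiv.Perm.mem_alternatingGroup.2 e)
      · have : x * s ∈ alternatingGroup (Fin k → Fin m) :=
          Equiv.Perm.mem_alternatingGroup.2 (by rw [Equiv.Perm.sign_mul, e, hs]; rfl)
        have := K.mul_mem (h this) (K.inv_mem (hK.le hsW))
        rwa [mul_inv_cancel_right] at this
    · exact absurd h hK.not_ge

/-- the symmetric half needs only the overgroups of the full wreath product -/
theorem coatom_perm_of_overgroups (hm : 3 ≤ m) (hk : 2 ≤ k)
    (hmax : ∀ G : Subgroup (Equiv.Perm (Fin k → Fin m)), wreath k m ≤ G →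
      alternatingGroup (Fin k → Fin m) ≤ G ∨ G ≤ wreath k m)
    {s : Equiv.Perm (Fin k → Fin m)} (hs : Equiv.Perm.sign s = -1) (hsW : InW s) :
    ∃ M : Subgroup (Equiv.Perm (Fin k → Fin m)), IsCoatom M ∧ ∀ σ, σ ∈ M ↔ InW σ := by
  classical
  obtain ⟨t, -, htW⟩ := exists_even_not_inW hm hk
  refine ⟨wreath k m, ⟨fun e => htW (e.ge (Subgroup.mem_top t) : t ∈ wreath k m), fun K hK => ?_⟩, fun σ => Iff.rfl⟩
  rcases hmax K hK.le with h | h
  · rw [eq_top_iff]
    intro x _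
    rcases Int.units_eq_one_or (Equiv.Perm.sign x) with e | e
    · exact h (Equiv.Perm.mem_alternatingGroup.2 e)
    · have : x * s ∈ alternatingGroup (Fin k → Fin m) :=
        Equiv.Perm.mem_alternatingGroup.2 (by rw [Equiv.Perm.sign_mul, e, hs]; rfl)
      have := K.mul_mem (h this) (K.inv_mem (hK.le hsW))
      rwa [mul_inv_cancel_right] at this
  · exact absurd h hK.not_ge

end CfsgLib.Perm.Product
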