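import Cfsg.Agent.Lib.Perm.Product.Prim
import Cfsg.Agent.Lib.Recog.Marggraff

/-!
No Jordan set below half of the points: nothing is supported in a slice, and an element moving one
coordinate only is a coordinate permutation.
-/

set_option autoImplicit false
set_option linter.unusedSectionVars false
set_option linter.style.haveILetI false

namespace CfsgLib.Perm.Product

open Equiv Equiv.Perm Function MulAction

/-- the dichotomy in `k` coordinates -/
def Dich (m k : ℕ) : Prop :=
  ∀ G : Subgroup (Perm (Fin k → Fin m)), Big G →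
    (∀ g ∈ G, InW g) ∨ alternatingGroup (Fin k → Fin m) ≤ G

variable {k m : ℕ}

/-- no subgroup of `G` has a transitive action on a small set and fixes everything else -/
theorem no_jordan (hm : 5 ≤ m) {G : Subgroup (Perm (Fin k → Fin m))} (hG : Big G)
    (hA : ¬ alternatingGroup (Fin k → Fin m) ≤ G) (Γ : Set (Fin k → Fin m)) (h1 : 1 < Γ.ncard)
    (h2 : 2 * Γ.ncard < Fintype.card (Fin k → Fin m))
    (htr : ∀ p ∈ Γ, ∀ q ∈ Γ, ∃ g ∈ G, (∀ z ∉ Γ, g z = z) ∧ g p = q) : False := by
  haveI := hG.preprimitive hm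
  obtain ⟨g, hg⟩ := CfsgLib.Recog.Marggraff.exists_threeCycle _ rfl (inferInstance : IsPreprimitive G _) Γ h1 h2
    fun p hp q hq => by
      obtain ⟨g, hg, hfix, hgp⟩ := htr p hp q hq
      exact ⟨⟨g, hg⟩, hfix, hgp⟩
  refine hA (Equiv.Perm.alternatingGroup_le_of_isPreprimitive_of_isThreeCycle_mem inferInstance hg ?_)
  rw [show (MulAction.toPerm g : Perm (Fin k → Fin m)) = (g : Perm (Fin k → Fin m)) from Equiv.ext fun _ => rfl]
  exact g.2

/-- the elements of `G` fixing everything outside `S` -/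
def supported (G : Subgroup (Perm (Fin k → Fin m))) (S : Set (Fin k → Fin m)) :
    Subgroup (Perm (Fin k → Fin m)) := G ⊓ fixingSubgroup (Perm (Fin k → Fin m)) Sᶜ

theorem mem_supported {G : Subgroup (Perm (Fin k → Fin m))} {S : Set (Fin k → Fin m)}
    {g : Perm (Fin k → Fin m)} : g ∈ supported G S ↔ g ∈ G ∧ ∀ f, f ∉ S → g f = f := by
  simp [supported, mem_fixingSubgroup_iff]

/-- elements preserving `S` normalise the elements supported in it -/
theorem supported_conj {G : Subgroup (Perm (Fin k → Fin m))} {S : Set (Fin k → Fin m)}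
    {g y : Perm (Fin k → Fin m)} (hg : g ∈ G) (hS : ∀ f ∈ S, g f ∈ S) (hy : y ∈ supported G S) :
    g * y * g⁻¹ ∈ supported G S := by
  rw [mem_supported] at hy ⊢
  refine ⟨G.mul_mem (G.mul_mem hg hy.1) (G.inv_mem hg), fun f hf => ?_⟩
  have : g⁻¹ f ∉ S := fun h => hf (by simpa using hS _ h)
  rw [Perm.mul_apply, Perm.mul_apply, hy.2 _ this, ← Perm.mul_apply, mul_inv_cancel, Perm.one_apply]

section Split

variable {G : Subgroup (Perm (Fin (k + 1) → Fin m))} (i : Fin (k + 1))

/-- the permutations of the other coordinates induced on a slice -/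
def restr (G : Subgroup (Perm (Fin (k + 1) → Fin m))) (v : Fin m) : Subgroup (Perm (Fin k → Fin m)) where
  carrier := {w | ∃ g ∈ G, ∀ p, g (split i (v, p)) = split i (v, w p)}
  one_mem' := ⟨1, G.one_mem, fun p => rfl⟩
  mul_mem' := by
    rintro w z ⟨g, hg, hgw⟩ ⟨h, hh, hhz⟩
    exact ⟨g * h, G.mul_mem hg hh, fun p => by rw [Perm.mul_apply, hhz, hgw]; rfl⟩
  inv_mem' := by
    rintro w ⟨g, hg, hgw⟩
    refine ⟨g⁻¹, G.inv_mem hg, fun p => ?_⟩
    rw [Perm.inv_eq_iff_eq, hgw, ← Perm.mul_apply, mul_inv_cancel, Perm.one_apply]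

theorem mem_restr {v : Fin m} {w : Perm (Fin k → Fin m)} :
    w ∈ restr i G v ↔ ∃ g ∈ G, ∀ p, g (split i (v, p)) = split i (v, w p) := Iff.rfl

/-- lifts of elements of the wreath product -/
theorem Big.lift (hG : Big G) {a b : Fin m} (hab : a ≠ b) {w : Perm (Fin k → Fin m)} (hw : InW w) :
    put i 1 w ∈ G ∨ put i (swap a b) w ∈ G := by
  by_cases h : sign (put i (1 : Perm (Fin m)) w) = 1
  · exact Or.inl (hG.even _ (inW_put i 1 hw) h)
  right
  refine hG.even _ (inW_put i _ hw) ?_
  have h' : sign w ^ m ≠ 1 := by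
    intro e
    exact h (by rw [sign_put, map_one, one_pow, one_mul, e])
  have hw1 : sign w = -1 := by
    rcases Int.units_eq_one_or (sign w) with e | e
    · exact absurd (by rw [e, one_pow]) h'
    · exact e
  have hodd : Odd m := by
    by_contra hc
    exact h' (by rw [hw1, (Nat.not_odd_iff_even.1 hc).neg_one_pow])
  rw [sign_put, sign_swap hab, hw1, (hodd.pow).neg_one_pow, hodd.neg_one_pow]
  rfl

/-- the coordinate permutation alone -/
theorem inW_shuffle (π : Perm (Fin k)) :
    InW ((Equiv.arrowCongr π (Equiv.refl (Fin m)) : Perm (Fin k → Fin m))) := ⟨π, 1, fun _ _ => rfl⟩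

theorem Big.restr_big (hm : 5 ≤ m) (hG : Big G) (v : Fin m) : Big (restr i G v) := by
  refine ⟨fun w hw hs => ⟨put i 1 w, hG.even _ (inW_put i 1 hw) (by rw [sign_put, map_one, hs, one_pow, one_pow,
    one_mul]), fun p => put_split i 1 w v p⟩, fun π => ?_⟩
  obtain ⟨a, ha⟩ := exists_notMem_fin (s := {v}) (by simp; omega)
  obtain ⟨b, hb⟩ := exists_notMem_fin (s := {v, a}) (lt_of_le_of_lt Finset.card_le_two (by omega))
  simp only [Finset.mem_insert, Finset.mem_singleton, not_or] at ha hb
  refine ⟨(Equiv.arrowCongr π (Equiv.refl (Fin m)) : Perm (Fin k → Fin m)), ?_, 1, fun _ _ => rfl⟩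
  rcases hG.lift i (Ne.symm hb.2) (inW_shuffle π) with h | h
  · exact ⟨_, h, fun p => put_split i 1 _ v p⟩
  · exact ⟨_, h, fun p => by rw [put_split, swap_apply_of_ne_of_ne (Ne.symm ha) (Ne.symm hb.1)]⟩

theorem card_pow_le (hm : 5 ≤ m) (hk : 1 ≤ k) : 5 ≤ m ^ k :=
  hm.trans (Nat.le_self_pow (by omega) m)

theorem ncard_slice (v : Fin m) : {f : Fin (k + 1) → Fin m | f i = v}.ncard = m ^ k := by
  have : {f : Fin (k + 1) → Fin m | f i = v} = Set.range fun p => split i (v, p) := by
    ext f
    constructor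
    · intro h
      exact ⟨fun j => f (i.succAbove j), by rw [← h]; exact (eq_split i f).symm⟩
    · rintro ⟨p, rfl⟩
      exact split_apply_same i v p
  rw [this, Set.ncard_range_of_injective fun p q h => by simpa using h]
  simp

/-- nothing is supported in a slice -/
theorem eq_one_of_slice (hm : 5 ≤ m) (hk : 1 ≤ k) (hG : Big G)
    (hA : ¬ alternatingGroup (Fin (k + 1) → Fin m) ≤ G) {v : Fin m} {g : Perm (Fin (k + 1) → Fin m)}
    (hg : g ∈ G) (hfix : ∀ f, f i ≠ v → g f = f) : g = 1 := by
  by_contra hg1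
  obtain ⟨S, hS⟩ : ∃ S, S = {f : Fin (k + 1) → Fin m | f i = v} := ⟨_, rfl⟩
  have hmemS : ∀ f, f ∈ S ↔ f i = v := fun f => by rw [hS]; rfl
  obtain ⟨Y, hY⟩ : ∃ Y, Y = supported G S := ⟨_, rfl⟩
  have hsl : ∀ y ∈ Y, ∀ f, f i = v → y f i = v := by
    intro y hy f hf
    rw [hY, mem_supported] at hy
    by_contra hne
    have := y.injective (hy.2 (y f) (fun h => hne ((hmemS _).1 h)))
    rw [this] at hne
    exact hne hf
  have hrY : restr i Y v ≤ restr i G v := by
    rintro w ⟨y, hy, hw⟩
    rw [hY, mem_supported] at hy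
    exact ⟨y, hy.1, hw⟩
  have hn : ∀ w ∈ restr i G v, ∀ z ∈ restr i Y v, w * z * w⁻¹ ∈ restr i Y v := by
    rintro w ⟨x, hx, hxw⟩ z ⟨y, hy, hyz⟩
    refine ⟨x * y * x⁻¹, hY ▸ supported_conj hx (fun f hf => ?_) (hY ▸ hy), fun p => ?_⟩
    · rw [hmemS] at hf ⊢
      rw [eq_split i f, hf, hxw, split_apply_same]
    · have hxi : x⁻¹ (split i (v, p)) = split i (v, w⁻¹ p) := by
        rw [Perm.inv_eq_iff_eq, hxw, ← Perm.mul_apply, mul_inv_cancel, Perm.one_apply]
      rw [Perm.mul_apply, Perm.mul_apply, hxi, hyz, hxw]; rfl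
  have hgY : g ∈ Y := by rw [hY, mem_supported]; exact ⟨hg, fun f hf => hfix f fun e => hf ((hmemS f).2 e)⟩
  have hwit : ∃ z ∈ restr i Y v, z ≠ 1 := by
    obtain ⟨f, hf⟩ : ∃ f, g f ≠ f := by
      by_contra h
      push Not at h
      exact hg1 (Equiv.ext h)
    have hfv : f i = v := by by_contra h; exact hf (hfix f h)
    obtain ⟨F, hF⟩ : ∃ F : (Fin k → Fin m) → Fin k → Fin m,
        ∀ p, g (split i (v, p)) = split i (v, F p) := by
      refine ⟨fun p j => g (split i (v, p)) (i.succAbove j), fun p => ?_⟩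
      conv_lhs => rw [eq_split i (g (split i (v, p)))]
      rw [hsl g hgY _ (split_apply_same i v p)]
    have hFi : Injective F := fun p q h => by
      have := g.injective ((hF p).trans (h ▸ (hF q).symm))
      simpa using this
    refine ⟨Equiv.ofBijective F (Finite.injective_iff_bijective.1 hFi), ⟨g, hgY, fun p => hF p⟩, fun e => hf ?_⟩
    have h2 : F (fun j => f (i.succAbove j)) = fun j => f (i.succAbove j) := by
      simpa using congrArg (fun z : Perm (Fin k → Fin m) => z (fun j => f (i.succAbove j))) e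
    conv_lhs => rw [eq_split i f, hfv, hF, h2]
    conv_rhs => rw [eq_split i f, hfv]
  obtain ⟨z, hz, hz1⟩ := hwit
  refine no_jordan hm hG hA S ?_ ?_ ?_
  · rw [hS, ncard_slice]; have := card_pow_le hm hk; omega
  · rw [hS, ncard_slice, Fintype.card_fun, Fintype.card_fin, Fintype.card_fin, pow_succ]
    have := card_pow_le hm hk
    nlinarith
  · intro p hp q hq
    rw [hmemS] at hp hq
    obtain ⟨z', hz', hzpq⟩ := (hG.restr_big i hm v).transitive_of_normalised hm hrY hn hz hz1
      (fun j => p (i.succAbove j)) (fun j => q (i.succAbove j))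
    obtain ⟨y, hy, hyw⟩ := hz'
    rw [hY, mem_supported] at hy
    refine ⟨y, hy.1, hy.2, ?_⟩
    conv_lhs => rw [eq_split i p, hp, hyw, hzpq]
    conv_rhs => rw [eq_split i q, hq]

/-- only one coordinate moves -/
theorem line_eq (h : Perm (Fin (k + 1) → Fin m)) (hl : ∀ f j, j ≠ i → h f j = f j) (f : Fin (k + 1) → Fin m) :
    h f = update f i (h f i) :=
  funext fun j => by
    rcases eq_or_ne j i with rfl | hj
    · rw [update_self]
    · rw [update_of_ne hj, hl f j hj]

/-- an element moving one coordinate only is a coordinate permutation -/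
theorem eq_coord_of_line (hm : 5 ≤ m) (hG : Big G) (hA : ¬ alternatingGroup (Fin (k + 1) → Fin m) ≤ G)
    {g : Perm (Fin (k + 1) → Fin m)} (hg : g ∈ G) (hl : ∀ f j, j ≠ i → g f j = f j) :
    ∃ c : Perm (Fin m), g = coord i c := by
  rcases Nat.eq_zero_or_pos k with rfl | hk
  · refine ⟨⟨fun x => g (fun _ => x) i, fun x => g⁻¹ (fun _ => x) i, fun x => ?_, fun x => ?_⟩, ?_⟩
    · show g⁻¹ (fun _ => g (fun _ => x) i) i = x
      rw [show (fun _ : Fin (0 + 1) => g (fun _ => x) i) = g (fun _ => x) from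
        funext fun j => by rw [Subsingleton.elim (α := Fin 1) j i]]
      simp
    · show g (fun _ => g⁻¹ (fun _ => x) i) i = x
      rw [show (fun _ : Fin (0 + 1) => g⁻¹ (fun _ => x) i) = g⁻¹ (fun _ => x) from
        funext fun j => by rw [Subsingleton.elim (α := Fin 1) j i]]
      simp
    · refine Equiv.ext fun f => funext fun j => ?_
      rw [Subsingleton.elim (α := Fin 1) j i, coord_self]
      show g f i = g (fun _ => f i) i
      rw [show (fun _ : Fin (0 + 1) => f i) = f from funext fun j => by rw [Subsingleton.elim (α := Fin 1) j i]]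
  have key : ∀ f j v, j ≠ i → g (update f j v) i = g f i := by
    intro f j v hj
    by_contra hne
    obtain ⟨a, ha⟩ : ∃ a, a = f j := ⟨_, rfl⟩
    have hav : a ≠ v := fun e => hne (by rw [← e, ha, update_eq_self])
    obtain ⟨e, he⟩ := exists_notMem_fin (s := {a, v}) (lt_of_le_of_lt Finset.card_le_two (by omega))
    simp only [Finset.mem_insert, Finset.mem_singleton, not_or] at he
    obtain ⟨u, hudef⟩ : ∃ u : Perm (Fin m), u = swap a v * swap v e := ⟨_, rfl⟩
    have hus : sign u = 1 := by rw [hudef, map_mul, sign_swap hav, sign_swap (Ne.symm he.2)]; rfl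
    have hua : u a = v := by simp [hudef, swap_apply_of_ne_of_ne, hav, Ne.symm he.1]
    have huo : ∀ x, x ≠ a → x ≠ v → x ≠ e → u x = x := fun x h1 h2 h3 => by
      simp [hudef, swap_apply_of_ne_of_ne, h1, h2, h3]
    obtain ⟨w, hwdef⟩ : ∃ w, w = coord j u := ⟨_, rfl⟩
    obtain ⟨h, hh⟩ : ∃ h, h = g⁻¹ * w⁻¹ * g * w := ⟨_, rfl⟩
    have hwG : w ∈ G := hwdef ▸ hG.coord_mem j u hus
    have hhG : h ∈ G := hh ▸ G.mul_mem (G.mul_mem (G.mul_mem (G.inv_mem hg) (G.inv_mem hwG)) hg) hwG
    have hgi : ∀ x l, l ≠ i → g⁻¹ x l = x l := fun x l hl' => by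
      have := hl (g⁻¹ x) l hl'
      simpa using this.symm
    have hline : ∀ x l, l ≠ i → h x l = x l := by
      intro x l hl'
      rw [hh, Perm.mul_apply, Perm.mul_apply, Perm.mul_apply, hgi _ l hl', hwdef, ← coord_inv]
      rcases eq_or_ne l j with rfl | hlj
      · rw [coord_self, hl _ l hl', coord_self]; simp
      · rw [coord_ne hlj, hl _ l hl', coord_ne hlj]
    have hout : ∀ x, x j ≠ a → x j ≠ v → x j ≠ e → h x = x := by
      intro x h1 h2 h3
      have hwx : w x = x := by rw [hwdef, coord_apply, huo _ h1 h2 h3, update_eq_self]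
      have hwg : w⁻¹ (g x) = g x := by
        rw [Perm.inv_eq_iff_eq, hwdef, coord_apply, hl x j hj, huo _ h1 h2 h3, ← hl x j hj, update_eq_self]
      rw [hh, Perm.mul_apply, Perm.mul_apply, Perm.mul_apply, hwx, hwg]; simp
    have hf : h f ≠ f := by
      intro e'
      rw [hh, Perm.mul_apply, Perm.mul_apply, Perm.mul_apply, Perm.inv_eq_iff_eq, Perm.inv_eq_iff_eq] at e'
      refine hne ?_
      have := congrFun e' i
      rw [hwdef, coord_ne (Ne.symm hj), coord_apply, ← ha, hua] at this
      exact this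
    -- move the support
    obtain ⟨t₁, ht₁⟩ := exists_notMem_fin (s := {a, v, e}) (lt_of_le_of_lt Finset.card_le_three (by omega))
    obtain ⟨t₂, ht₂⟩ := exists_notMem_fin (s := {a, v, e, t₁}) (lt_of_le_of_lt Finset.card_le_four (by omega))
    simp only [Finset.mem_insert, Finset.mem_singleton, not_or] at ht₁ ht₂
    obtain ⟨r, hrdef⟩ : ∃ r : Perm (Fin m), r = swap v t₁ * swap e t₂ := ⟨_, rfl⟩
    have hrs : sign r = 1 := by
      rw [hrdef, map_mul, sign_swap (Ne.symm ht₁.2.1), sign_swap (Ne.symm ht₂.2.2.1)]; rfl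
    have hra : r a = a := by
      simp [hrdef, swap_apply_of_ne_of_ne, hav, Ne.symm ht₁.1, Ne.symm he.1, Ne.symm ht₂.1]
    have hrv : r v = t₁ := by
      simp [hrdef, swap_apply_of_ne_of_ne, Ne.symm he.2, Ne.symm ht₂.2.1]
    have hre : r e = t₂ := by
      simp [hrdef, swap_apply_of_ne_of_ne, ht₂.2.1, ht₂.2.2.2]
    -- the line through `f`
    obtain ⟨s₀, hs₀⟩ : ∃ s₀ : Fin m → Fin m, ∀ x, s₀ x = h (update f i x) i := ⟨_, fun x => rfl⟩
    have hsi : Injective s₀ := by
      intro x y hxy
      have : h (update f i x) = h (update f i y) := funext fun l => by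
        rcases eq_or_ne l i with rfl | hl'
        · rw [← hs₀, ← hs₀, hxy]
        · rw [hline _ l hl', hline _ l hl', update_of_ne hl', update_of_ne hl']
      simpa using congrFun (h.injective this) i
    obtain ⟨s, hs⟩ : ∃ s : Perm (Fin m), ∀ x, s x = s₀ x :=
      ⟨Equiv.ofBijective _ (Finite.injective_iff_bijective.1 hsi), fun x => rfl⟩
    have hsl : ∀ x, h (update f i x) = update f i (s x) := fun x => by
      rw [hs, hs₀]; conv_lhs => rw [line_eq i h hline, update_idem]
    have hs1 : s ≠ 1 := by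
      intro e'
      have := hsl (f i)
      rw [e', Perm.one_apply, update_eq_self] at this
      exact hf this
    obtain ⟨c, hc, hcn⟩ := exists_noncomm_conj (by simpa using hm) hs1
    obtain ⟨x₀, hx₀⟩ : ∃ x₀, s ((c * s * c⁻¹) x₀) ≠ (c * s * c⁻¹) (s x₀) := by
      by_contra hc'
      push Not at hc'
      exact hcn (Equiv.ext hc')
    obtain ⟨T, hTdef⟩ : ∃ T, T = coord j r * coord i c := ⟨_, rfl⟩
    obtain ⟨h', hh'⟩ : ∃ h', h' = T * h * T⁻¹ := ⟨_, rfl⟩
    have hTG : T ∈ G := hTdef ▸ G.mul_mem (hG.coord_mem j r hrs) (hG.coord_mem i c hc)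
    have hTj : ∀ x, T x j = r (x j) := fun x => by rw [hTdef, Perm.mul_apply, coord_self, coord_ne hj]
    have hline' : ∀ x l, l ≠ i → h' x l = x l := by
      intro x l hl'
      obtain ⟨y, rfl⟩ := T.surjective x
      rw [hh', Perm.mul_apply, Perm.mul_apply, show T⁻¹ (T y) = y by simp]
      rcases eq_or_ne l j with rfl | hlj
      · rw [hTj, hTj, hline y l hl']
      · rw [hTdef, Perm.mul_apply, Perm.mul_apply, coord_ne hlj, coord_ne hlj, coord_ne hl', coord_ne hl',
          hline y l hl']
    have hout' : ∀ x, x j ≠ a → x j ≠ t₁ → x j ≠ t₂ → h' x = x := by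
      intro x h1 h2 h3
      obtain ⟨y, rfl⟩ := T.surjective x
      rw [hh', Perm.mul_apply, Perm.mul_apply, show T⁻¹ (T y) = y by simp]
      rw [hTj] at h1 h2 h3
      rw [hout y (fun e' => h1 (by rw [e', hra])) (fun e' => h2 (by rw [e', hrv]))
        (fun e' => h3 (by rw [e', hre]))]
    have hcommOut : ∀ x, x j ≠ a → h (h' x) = h' (h x) := by
      intro x hx
      by_cases hxT : x j = v ∨ x j = e
      · have hne₁ : x j ≠ t₁ := by
          rcases hxT with e' | e' <;> rw [e']
          · exact Ne.symm ht₁.2.1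
          · exact Ne.symm ht₁.2.2
        have hne₂ : x j ≠ t₂ := by
          rcases hxT with e' | e' <;> rw [e']
          · exact Ne.symm ht₂.2.1
          · exact Ne.symm ht₂.2.2.1
        rw [hout' x hx hne₁ hne₂, hout' (h x) (by rwa [hline x j hj]) (by rwa [hline x j hj]) (by rwa [hline x j hj])]
      · push Not at hxT
        rw [hout x hx hxT.1 hxT.2, hout (h' x) (by rwa [hline' x j hj]) (by rw [hline' x j hj]; exact hxT.1)
          (by rw [hline' x j hj]; exact hxT.2)]
    have hz : h * h' * h⁻¹ * h'⁻¹ = 1 := by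
      refine eq_one_of_slice j hm hk hG hA (v := a) ?_ fun x hx => ?_
      · have hh'G : h' ∈ G := hh' ▸ G.mul_mem (G.mul_mem hTG hhG) (G.inv_mem hTG)
        exact G.mul_mem (G.mul_mem (G.mul_mem hhG hh'G) (G.inv_mem hhG)) (G.inv_mem hh'G)
      · obtain ⟨y, rfl⟩ := h'.surjective x
        obtain ⟨z, rfl⟩ := h.surjective y
        have hzj : z j ≠ a := by rwa [hline' _ j hj, hline _ j hj] at hx
        simp [hcommOut z hzj]
    have hcomm : ∀ x, h (h' x) = h' (h x) := fun x => by
      have := congrArg (fun p : Perm (Fin (k + 1) → Fin m) => p (h' (h x))) hz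
      simpa using this
    have hT : ∀ x, T (update f i x) = update f i (c x) := fun x => by
      rw [hTdef, Perm.mul_apply, coord_apply i c, update_self, update_idem, coord_apply, update_of_ne hj, ← ha,
        hra, ha, update_comm (Ne.symm hj), update_eq_self]
    have hh'l : ∀ x, h' (update f i x) = update f i ((c * s * c⁻¹) x) := fun x => by
      have hTi : T⁻¹ (update f i x) = update f i (c⁻¹ x) := by rw [Perm.inv_eq_iff_eq, hT]; simp
      rw [hh', Perm.mul_apply, Perm.mul_apply, hTi, hsl, hT]; rfl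
    have := hcomm (update f i x₀)
    rw [hh'l, hsl, hsl, hh'l] at this
    exact hx₀ (by simpa using congrFun this i)
  -- independence of the other coordinates
  have hind : ∀ f f', f i = f' i → g f i = g f' i := by
    intro f f' he
    suffices ∀ s : Finset (Fin (k + 1)), g (s.piecewise f' f) i = g f i by
      have := this Finset.univ
      rw [Finset.piecewise_univ] at this
      exact this.symm
    intro s
    induction s using Finset.induction_on with
    | empty => rw [Finset.piecewise_empty]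
    | insert j t hj ih =>
      rw [Finset.piecewise_insert]
      rcases eq_or_ne j i with rfl | hji
      · rw [show update (t.piecewise f' f) j (f' j) = t.piecewise f' f from by
          rw [← he, show f j = t.piecewise f' f j from (Finset.piecewise_eq_of_notMem t f' f hj).symm,
            update_eq_self]]
        exact ih
      · rw [key _ _ _ hji, ih]
  obtain ⟨f₀, -⟩ : ∃ f₀ : Fin (k + 1) → Fin m, True := ⟨fun _ => ⟨0, by omega⟩, trivial⟩
  have hinj : Injective fun x => g (update f₀ i x) i := by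
    intro x y hxy
    have : g (update f₀ i x) = g (update f₀ i y) := funext fun l => by
      rcases eq_or_ne l i with rfl | hl'
      · exact hxy
      · rw [hl _ l hl', hl _ l hl', update_of_ne hl', update_of_ne hl']
    simpa using congrFun (g.injective this) i
  refine ⟨Equiv.ofBijective _ (Finite.injective_iff_bijective.1 hinj), Equiv.ext fun f => funext fun l => ?_⟩
  rcases eq_or_ne l i with rfl | hl'
  · rw [coord_self]
    exact hind f (update f₀ l (f l)) (by rw [update_self])
  · rw [coord_ne hl', hl f l hl']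

end Split

end CfsgLib.Perm.Product
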