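import Cfsg.Agent.Lib.Perm.Product.Class
import Cfsg.Agent.Lib.Perm.Product.Slice
import Cfsg.Agent.Lib.Perm.Product.Proper
import Cfsg.Agent.Lib.Perm.Product.Numerics

/-!
With centralisers of coordinate cycles inside the wreath product, Sylow fusion in pair stabilisers shows that
adjacency is preserved; induction on the number of coordinates gives the dichotomy.
-/

set_option autoImplicit false
set_option linter.unusedSectionVars false
set_option linter.style.haveILetI false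

namespace CfsgLib.Perm.Product

open Equiv Equiv.Perm Function

variable {k m : ℕ}

theorem exists_cycle {s : Finset (Fin m)} (hs : 2 ≤ s.card) : ∃ c : Perm (Fin m), c.IsCycle ∧ c.support = s := by
  classical
  refine ⟨s.toList.formPerm, List.isCycle_formPerm s.nodup_toList (by rw [Finset.length_toList]; exact hs), ?_⟩
  rw [List.support_formPerm_of_nodup _ s.nodup_toList, Finset.toList_toFinset]
  intro x hx
  have := congrArg List.length hx
  rw [Finset.length_toList, List.length_singleton] at this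
  omega

section

variable {q e : ℕ} (hq : q.Prime) (he : 1 ≤ e) (hL : m < 2 * q ^ e) (hL2 : q ^ e + 2 ≤ m)
  {G : Subgroup (Perm (Fin (k + 1) → Fin m))} (hG : Big G) (hcent : CentInW (q ^ e) G)
include hq he hL hL2 hG hcent

/-- a `q`-group of `G` with a coordinate cycle lies in the wreath product -/
theorem qGroup_inW {P : Subgroup G} (hP : IsPGroup q P) {i : Fin (k + 1)} {c : Perm (Fin m)} (hc : c.IsCycle)
    (hcard : c.support.card = q ^ e) {x : G} (hxP : x ∈ P) (hx : (x : Perm (Fin (k + 1) → Fin m)) = coord i c) :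
    ∀ g ∈ P, InW (g : Perm (Fin (k + 1) → Fin m)) := by
  classical
  haveI := Fact.mk hq
  obtain ⟨Q, hQ⟩ : ∃ Q : Subgroup P, Q = ((wreath (k + 1) m).subgroupOf G).subgroupOf P := ⟨_, rfl⟩
  by_contra hcon
  push Not at hcon
  obtain ⟨g0, hg0, hg0'⟩ := hcon
  have hlt : Q < ⊤ := lt_top_iff_ne_top.2 fun e' => hg0' (by
    have : (⟨g0, hg0⟩ : P) ∈ Q := e' ▸ Subgroup.mem_top _
    rw [hQ] at this
    exact this)
  haveI : Finite P := inferInstance
  haveI : Group.IsNilpotent P := hP.isNilpotent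
  obtain ⟨-, y, hy, hyQ⟩ := SetLike.lt_iff_le_and_exists.1 (normalizerCondition_of_isNilpotent Q hlt)
  refine hyQ ?_
  rw [hQ]
  show InW ((y : G) : Perm (Fin (k + 1) → Fin m))
  have hxQ : (⟨x, hxP⟩ : P) ∈ Q := by
    rw [hQ]; show InW (x : Perm (Fin (k + 1) → Fin m))
    rw [hx]; exact inW_coord i c
  have h1 := (Subgroup.mem_normalizer_iff.1 hy _).1 hxQ
  rw [hQ] at h1
  have h2 : InW (((y : G) : Perm (Fin (k + 1) → Fin m)) * (x : Perm (Fin (k + 1) → Fin m)) *
      ((y : G) : Perm (Fin (k + 1) → Fin m))⁻¹) := h1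
  rw [hx] at h2
  exact inW_of_conj hq he hL hL2 hG hcent hc hcard (y : G).2 h2

/-- adjacency is preserved -/
theorem adj_preserved (hsign : ∀ (i : Fin (k + 1)) (c : Perm (Fin m)), c.IsCycle → c.support.card = q ^ e →
    coord i c ∈ G) {g : Perm (Fin (k + 1) → Fin m)} (hg : g ∈ G) {f f' : Fin (k + 1) → Fin m} (ha : Adj f f') :
    Adj (g f) (g f') := by
  classical
  haveI := Fact.mk hq
  have hpick : ∀ a a' : Fin (k + 1) → Fin m, ∃ (c : Perm (Fin m)) (x : G), c.IsCycle ∧ c.support.card = q ^ e ∧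
      (x : Perm (Fin (k + 1) → Fin m)) = coord 0 c ∧ x • a = a ∧ x • a' = a' ∧ x ^ (q ^ e) = 1 := by
    intro a a'
    have hbig : q ^ e ≤ ({a 0, a' 0} : Finset (Fin m))ᶜ.card := by
      rw [Finset.card_compl, Fintype.card_fin]
      have := Finset.card_le_two (a := a 0) (b := a' 0)
      omega
    obtain ⟨s, hs, hsc⟩ := Finset.exists_subset_card_eq hbig
    have hne : e ≠ 0 := by omega
    have h2 : 2 ≤ q ^ e := le_trans hq.two_le (Nat.le_self_pow hne q)
    obtain ⟨c, hc, hcs⟩ := exists_cycle (s := s) (by omega)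
    have hcard : c.support.card = q ^ e := by rw [hcs, hsc]
    have hfix : ∀ v, v ∈ ({a 0, a' 0} : Finset (Fin m)) → c v = v := fun v hv => by
      by_contra hne'
      have := hs (hcs ▸ Perm.mem_support.2 hne')
      exact (Finset.mem_compl.1 this) hv
    refine ⟨c, ⟨_, hsign 0 c hc hcard⟩, hc, hcard, rfl, ?_, ?_, ?_⟩
    · show coord 0 c a = a
      rw [coord_apply, hfix _ (Finset.mem_insert_self _ _), update_eq_self]
    · show coord 0 c a' = a'
      rw [coord_apply, hfix _ (Finset.mem_insert_of_mem (Finset.mem_singleton_self _)), update_eq_self]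
    · refine Subtype.ext ?_
      show coord 0 c ^ (q ^ e) = 1
      rw [coord_pow, pow_cycle hc hcard, coord_one]
  obtain ⟨c, x, hc, hcc, hx, hxf, hxf', hxL⟩ := hpick f f'
  obtain ⟨c', x', hc', hcc', hx', hxg, hxg', hxL'⟩ := hpick (g f) (g f')
  obtain ⟨K, hK⟩ : ∃ K : Subgroup G, K = MulAction.stabilizer G (g f) ⊓ MulAction.stabilizer G (g f') := ⟨_, rfl⟩
  have hx'K : x' ∈ K := by rw [hK]; exact ⟨hxg, hxg'⟩
  obtain ⟨y, hy⟩ : ∃ y : G, y = (⟨g, hg⟩ : G) * x * (⟨g, hg⟩ : G)⁻¹ := ⟨_, rfl⟩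
  have hyK : y ∈ K := by
    rw [hK, hy]
    constructor
    · show ((⟨g, hg⟩ : G) * x * (⟨g, hg⟩ : G)⁻¹) • (⟨g, hg⟩ : G) • f = (⟨g, hg⟩ : G) • f
      rw [mul_smul, inv_smul_smul, mul_smul, hxf]
    · show ((⟨g, hg⟩ : G) * x * (⟨g, hg⟩ : G)⁻¹) • (⟨g, hg⟩ : G) • f' = (⟨g, hg⟩ : G) • f'
      rw [mul_smul, inv_smul_smul, mul_smul, hxf']
  have hz : ∀ {a : G} (haK : a ∈ K), a ^ (q ^ e) = 1 → IsPGroup q (Subgroup.zpowers (⟨a, haK⟩ : K)) := by
    intro a haK ha1
    obtain ⟨n, -, hn⟩ := (Nat.dvd_prime_pow hq).1 (orderOf_dvd_of_pow_eq_one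
      (show (⟨a, haK⟩ : K) ^ (q ^ e) = 1 from Subtype.ext (by rw [SubmonoidClass.coe_pow]; exact ha1)))
    exact IsPGroup.of_card (n := n) (by rw [Nat.card_zpowers]; exact hn)
  obtain ⟨S, hS⟩ := (hz hx'K hxL').exists_le_sylow
  obtain ⟨P, hP⟩ := (hz hyK (by rw [hy, conj_pow, hxL, mul_one, mul_inv_cancel])).exists_le_sylow
  obtain ⟨u, hu⟩ := MulAction.exists_smul_eq K P S
  have hW := qGroup_inW hq he hL hL2 hG hcent (P := (S : Subgroup K).map K.subtype)
    (S.2.map K.subtype) hc' hcc' (x := x') ⟨⟨x', hx'K⟩, hS (Subgroup.mem_zpowers _), rfl⟩ hx'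
  have huy : u * ⟨y, hyK⟩ * u⁻¹ ∈ (S : Subgroup K) := by
    rw [← hu]
    exact Subgroup.smul_mem_pointwise_smul _ (MulAut.conj u) _ (hP (Subgroup.mem_zpowers _))
  have h1 := hW _ ⟨_, huy, rfl⟩
  have h2 : InW ((((u : G) * ⟨g, hg⟩ : G) : Perm (Fin (k + 1) → Fin m)) * coord 0 c *
      (((u : G) * ⟨g, hg⟩ : G) : Perm (Fin (k + 1) → Fin m))⁻¹) := by
    convert h1 using 1
    show _ = ((u : G) : Perm (Fin (k + 1) → Fin m)) * (y : Perm (Fin (k + 1) → Fin m)) * ((u : G) : Perm (Fin (k + 1) → Fin m))⁻¹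
    rw [← hx, hy]
    simp only [Subgroup.coe_mul, Subgroup.coe_inv, _root_.mul_inv_rev, mul_assoc]
  have h3 := InW.adj (inW_of_conj hq he hL hL2 hG hcent hc hcc ((u : G) * ⟨g, hg⟩ : G).2 h2) ha
  have e1 : ((u : G) : Perm (Fin (k + 1) → Fin m)) (g f) = g f :=
    (show (u : G) ∈ MulAction.stabilizer G (g f) ⊓ MulAction.stabilizer G (g f') from hK ▸ u.2).1
  have e2 : ((u : G) : Perm (Fin (k + 1) → Fin m)) (g f') = g f' :=
    (show (u : G) ∈ MulAction.stabilizer G (g f) ⊓ MulAction.stabilizer G (g f') from hK ▸ u.2).2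
  rw [Subgroup.coe_mul, Perm.mul_apply, Perm.mul_apply] at h3
  rwa [e1, e2] at h3

end

theorem inW_of_small (hk : k ≤ 1) (σ : Perm (Fin k → Fin m)) : InW σ := by
  rcases Nat.le_one_iff_eq_zero_or_eq_one.1 hk with rfl | rfl
  · exact ⟨1, fun j => j.elim0, fun f j => j.elim0⟩
  · refine ⟨1, fun _ => (Equiv.funUnique (Fin 1) (Fin m)).permCongr σ, fun f j => ?_⟩
    obtain rfl : j = 0 := Subsingleton.elim _ _
    rw [Equiv.permCongr_apply]
    show σ f 0 = σ ((Equiv.funUnique (Fin 1) (Fin m)).symm (f 0)) 0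
    refine congrFun (congrArg σ ?_) 0
    funext l
    rw [Subsingleton.elim l 0]; rfl

/-- the sign of a coordinate cycle -/
theorem sign_coord_cycle {L : ℕ} (hodd : Odd m → Odd L) (hk : 1 ≤ k) (i : Fin (k + 1)) {c : Perm (Fin m)}
    (hc : c.IsCycle) (hcard : c.support.card = L) : sign (coord i c) = 1 := by
  rw [sign_coord_pow]
  rcases Nat.even_or_odd m with hm | hm
  · have : Even (m ^ k) := hm.pow_of_ne_zero (by omega)
    obtain ⟨t, ht⟩ := this
    rw [ht, pow_add, Int.units_mul_self]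
  · rw [hc.sign, hcard, (hodd hm).neg_one_pow, neg_neg, one_pow]

/-- the dichotomy, given the centraliser lemma -/
theorem dich_of_cent (hm : 5 ≤ m)
    (hstep : ∀ k, 1 ≤ k → Dich m k → ∀ G : Subgroup (Perm (Fin (k + 1) → Fin m)), Big G →
      ¬ alternatingGroup (Fin (k + 1) → Fin m) ≤ G → ∀ q e : ℕ, q.Prime → 1 ≤ e → m < 2 * q ^ e → q ^ e + 2 ≤ m →
      (Odd m → Odd (q ^ e)) → (∀ b i : ℕ, 1 ≤ b → b ≤ m - q ^ e → ¬ m ∣ q ^ i * b) → CentInW (q ^ e) G) :
    ∀ k, Dich m k := by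
  intro k
  induction k with
  | zero => exact fun G _ => Or.inl fun g _ => inW_of_small (by omega) g
  | succ k ih =>
    intro G hG
    rcases Nat.eq_zero_or_pos k with rfl | hk
    · exact Or.inl fun g _ => inW_of_small le_rfl g
    by_cases hA : alternatingGroup (Fin (k + 1) → Fin m) ≤ G
    · exact Or.inr hA
    obtain ⟨q, e, hq, he, hL, hL2, hodd, hnum⟩ := exists_cycle_length hm
    have hcent := hstep k hk ih G hG hA q e hq he hL hL2 hodd hnum
    refine Or.inl fun g hg => inW_of_adj g fun f f' ha => adj_preserved hq he hL hL2 hG hcent ?_ hg ha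
    exact fun i c hc hcard => hG.even _ (inW_coord i c) (sign_coord_cycle hodd hk i hc hcard)

end CfsgLib.Perm.Product
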